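import Cfsg.Agent.MersenneLinear.Core

/-!
# Antiflag transitive duos

The flags fixed by Sylow 2-subgroups give for each vector a submodule whose complement is one
orbit of the stabilizer.
-/

set_option autoImplicit false
set_option linter.unusedSectionVars false
set_option linter.style.haveILetI false

namespace CfsgLib.MersenneLin

open Module
open scoped Classical

universe u v w

variable {G : Type u} [Group G] {W : Type v} {W' : Type w} [AddCommGroup W] [Module F2 W]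
  [AddCommGroup W'] [Module F2 W'] [Finite G] [Finite W] [Finite W']

/-- Transitive on antiflags. -/
structure Duo.AT (D : Duo G W W') : Prop where
  antiflag : ∀ a φ b ψ, D.β a φ = 1 → D.β b ψ = 1 → ∃ g, D.r g a = b ∧ D.r' g φ = ψ
  two_le : 2 ≤ finrank F2 W

namespace Duo

variable (D : Duo G W W')

theorem ne_zero_of_β {a : W} {φ : W'} (h : D.β a φ = 1) : a ≠ 0 ∧ φ ≠ 0 := by
  constructor <;> rintro rfl <;> simp at h

/-- A Sylow 2-subgroup fixes the flag. -/
def R (a : W) (φ : W') : Prop :=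
  a ≠ 0 ∧ φ ≠ 0 ∧ ∃ S : Sylow 2 G, (∀ s ∈ S, D.r s a = a) ∧ ∀ s ∈ S, D.r' s φ = φ

theorem swap_R {a : W} {φ : W'} : D.swap.R φ a ↔ D.R a φ :=
  ⟨fun ⟨h1, h2, S, h3, h4⟩ => ⟨h2, h1, S, h4, h3⟩, fun ⟨h1, h2, S, h3, h4⟩ => ⟨h2, h1, S, h4, h3⟩⟩

theorem R_map {a : W} {φ : W'} (h : D.R a φ) (g : G) : D.R (D.r g a) (D.r' g φ) := by
  obtain ⟨ha, hφ, S, h1, h2⟩ := h
  refine ⟨fun e => ha ((D.r g).map_eq_zero_iff.1 e), fun e => hφ ((D.r' g).map_eq_zero_iff.1 e), g • S, ?_, ?_⟩
  · rintro s hs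
    rw [← SetLike.mem_coe, ← Sylow.coe_coe, SetLike.mem_coe, Sylow.coe_subgroup_smul] at hs
    obtain ⟨t, ht, rfl⟩ := hs
    show D.r (g * t * g⁻¹) (D.r g a) = D.r g a
    rw [← r_mul, inv_mul_cancel_right, r_mul, h1 t ht]
  · rintro s hs
    rw [← SetLike.mem_coe, ← Sylow.coe_coe, SetLike.mem_coe, Sylow.coe_subgroup_smul] at hs
    obtain ⟨t, ht, rfl⟩ := hs
    show D.swap.r (g * t * g⁻¹) (D.swap.r g φ) = D.swap.r g φ
    rw [← r_mul, inv_mul_cancel_right, r_mul]
    exact congrArg _ (h2 t ht)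

theorem R_iff_map {a : W} {φ : W'} (g : G) : D.R (D.r g a) (D.r' g φ) ↔ D.R a φ := by
  refine ⟨fun h => ?_, fun h => D.R_map h g⟩
  have h' := D.R_map h g⁻¹
  rwa [D.r_inv_apply, show D.r' g⁻¹ (D.r' g φ) = φ from D.swap.r_inv_apply g φ] at h'

/-- The span of the functionals of the flags at a vector. -/
def F (a : W) : Submodule F2 W' := Submodule.span F2 {φ | D.R a φ}

/-- The common zeros of these functionals. -/
def P (a : W) : Submodule F2 W := D.ann (D.F a)

theorem mem_P {a z : W} : z ∈ D.P a ↔ ∀ φ, D.R a φ → D.β z φ = 0 := by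
  rw [P, mem_ann]
  refine ⟨fun h φ hφ => h φ (Submodule.subset_span hφ), fun h φ hφ => ?_⟩
  induction hφ using Submodule.span_induction with
  | mem φ hφ => exact h φ hφ
  | zero => exact map_zero _
  | add _ _ _ _ h1 h2 => rw [map_add, h1, h2, add_zero]
  | smul c _ _ h1 => rw [map_smul, h1, smul_zero]

theorem exists_R_of_notMem {a z : W} (h : z ∉ D.P a) : ∃ φ, D.R a φ ∧ D.β z φ = 1 := by
  rw [mem_P] at h
  push Not at h
  obtain ⟨φ, h1, h2⟩ := h
  exact ⟨φ, h1, f2_eq_one h2⟩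

theorem F_map (g : G) (a : W) : D.F (D.r g a) = (D.F a).map (D.r' g : W' →ₗ[F2] W') := by
  rw [F, F, Submodule.map_span]
  congr 1
  ext φ
  constructor
  · intro h
    refine ⟨D.r' g⁻¹ φ, (D.R_iff_map g).1 ?_, D.r'_apply_inv g φ⟩
    rw [D.r'_apply_inv]; exact h
  · rintro ⟨ψ, hψ, rfl⟩
    exact D.R_map hψ g

theorem F_invariant {a : W} {g : G} (hg : D.r g a = a) {φ : W'} (hφ : φ ∈ D.F a) : D.r' g φ ∈ D.F a := by
  have h := D.F_map g a
  rw [hg] at h
  rw [h]
  exact ⟨φ, hφ, rfl⟩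

theorem mem_P_map {a z : W} (g : G) : D.r g z ∈ D.P (D.r g a) ↔ z ∈ D.P a := by
  rw [mem_P, mem_P]
  constructor
  · intro h φ hφ
    have := h _ (D.R_map hφ g)
    rwa [D.inv] at this
  · intro h φ hφ
    rw [← D.r'_apply_inv g φ, D.inv]
    refine h _ ((D.R_iff_map g).1 ?_)
    rw [D.r'_apply_inv]; exact hφ

/-- A subgroup of index a power of two is supplemented by a Sylow 2-subgroup. -/
theorem sylow_orbit (S : Sylow 2 G) (L : Subgroup G) {k : ℕ} (hk : L.index = 2 ^ k) (g : G) :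
    ∃ s ∈ S, s⁻¹ * g ∈ L := by
  haveI : Fact (Nat.Prime 2) := ⟨Nat.prime_two⟩
  have h1 : 2 ^ k ∣ L.relIndex S * (S : Subgroup G).index := by
    rw [← hk, ← Subgroup.inf_relIndex_right, Subgroup.relIndex_mul_index inf_le_right]
    exact Subgroup.index_dvd_of_le inf_le_left
  have h2 : 2 ^ k ∣ L.relIndex S := ((Nat.Prime.coprime_iff_not_dvd Nat.prime_two).2 S.not_dvd_index).pow_left k
    |>.dvd_of_dvd_mul_right h1
  have hle : L.index ≤ L.relIndex S := by
    rw [hk]
    exact Nat.le_of_dvd (Nat.pos_of_ne_zero (L.subgroupOf S).index_ne_zero_of_finite) h2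
  have hinj : Function.Injective fun q : ↥(S : Subgroup G) ⧸ L.subgroupOf S =>
      Quotient.map' (fun s : ↥(S : Subgroup G) => (s : G)) (fun a b hab => by
        rw [QuotientGroup.leftRel_apply] at hab ⊢
        exact Subgroup.mem_subgroupOf.1 hab) q := by
    intro q q'
    induction q using Quotient.inductionOn' with | h a => ?_
    induction q' using Quotient.inductionOn' with | h b => ?_
    intro h
    simp only [Quotient.map'_mk''] at h
    exact Quotient.sound' (QuotientGroup.leftRel_apply.2 (Subgroup.mem_subgroupOf.2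
      (QuotientGroup.leftRel_apply.1 (Quotient.exact' h))))
  haveI : Finite (G ⧸ L) := inferInstance
  obtain ⟨-, hs⟩ := (Nat.bijective_iff_injective_and_card _).2
    ⟨hinj, le_antisymm (Nat.card_le_card_of_injective _ hinj) hle⟩
  obtain ⟨q, hq⟩ := hs (QuotientGroup.mk g)
  induction q using Quotient.inductionOn' with | h s => ?_
  exact ⟨s, s.2, QuotientGroup.leftRel_apply.1 (Quotient.exact' hq)⟩

theorem index_stab (a : W) : (D.stab a).index = Nat.card {b : W // ∃ g, D.r g a = b} := by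
  letI A : MulAction G W := D.act
  show (MulAction.stabilizer G a).index = _
  rw [MulAction.index_stabilizer, ← Nat.card_coe_set_eq]
  rfl

theorem card_β_one {φ : W'} (hφ : φ ≠ 0) :
    Nat.card {z : W // D.β z φ = 1} = 2 ^ (finrank F2 W - 1) := by
  obtain ⟨v, hv⟩ := D.swap.exists_one hφ
  let f : W →ₗ[F2] F2 := D.β.flip φ
  have e : {z : W // D.β z φ = 1} ≃ LinearMap.ker f :=
    { toFun := fun z => ⟨z.1 + v, by
        show D.β (z.1 + v) φ = 0
        rw [map_add, LinearMap.add_apply, z.2, show D.β v φ = 1 from hv]; decide⟩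
      invFun := fun z => ⟨z.1 + v, by
        have h : D.β z.1 φ = 0 := z.2
        rw [map_add, LinearMap.add_apply, h, show D.β v φ = 1 from hv, zero_add]⟩
      left_inv := fun z => Subtype.ext (by simp [add_assoc, add_self'])
      right_inv := fun z => Subtype.ext (by simp [add_assoc, add_self']) }
  rw [Nat.card_congr e, Module.natCard_eq_pow_finrank (K := F2) (V := ↥(LinearMap.ker f)), Nat.card_zmod]
  congr 1
  have h := f.finrank_range_add_finrank_ker
  have hr : LinearMap.range f = ⊤ := by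
    refine LinearMap.range_eq_top.2 fun c => ⟨c • v, ?_⟩
    show D.β (c • v) φ = c
    rw [map_smul, LinearMap.smul_apply, show D.β v φ = 1 from hv, smul_eq_mul, mul_one]
  rw [hr, finrank_top, Module.finrank_self] at h
  omega

theorem card_ne_zero_odd (hm : 1 ≤ finrank F2 W) : ¬ 2 ∣ Nat.card {z : W // z ≠ 0} := by
  have h : Nat.card {z : W // z ≠ 0} + 1 = 2 ^ finrank F2 W := by
    haveI := Fintype.ofFinite W
    rw [Nat.card_eq_fintype_card, Fintype.card_subtype_compl, Fintype.card_subtype_eq,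
      Nat.sub_add_cancel Fintype.card_pos, ← Nat.card_eq_fintype_card,
      Module.natCard_eq_pow_finrank (K := F2) (V := W), Nat.card_zmod]
  intro hd
  have h' : 2 ∣ 2 ^ finrank F2 W := dvd_pow_self 2 (by omega)
  rw [← h, Nat.dvd_add_right hd] at h'
  omega

namespace AT

variable {D} (hA : D.AT)
include hA

theorem swap : D.swap.AT where
  antiflag φ a ψ b h1 h2 := by
    obtain ⟨g, h3, h4⟩ := hA.antiflag a φ b ψ h1 h2
    exact ⟨g, h4, h3⟩
  two_le := D.finrank_eq ▸ hA.two_le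

theorem transitive {a b : W} (ha : a ≠ 0) (hb : b ≠ 0) : ∃ g, D.r g a = b := by
  obtain ⟨φ, hφ⟩ := D.exists_one ha
  obtain ⟨ψ, hψ⟩ := D.exists_one hb
  obtain ⟨g, hg, -⟩ := hA.antiflag a φ b ψ hφ hψ
  exact ⟨g, hg⟩

theorem index_odd {a : W} (ha : a ≠ 0) : ¬ 2 ∣ (D.stab a).index := by
  rw [D.index_stab, Nat.card_congr (Equiv.subtypeEquivRight fun b => show (∃ g, D.r g a = b) ↔ b ≠ 0 from
    ⟨fun ⟨g, hg⟩ => hg ▸ fun e => ha ((D.r g).map_eq_zero_iff.1 e), fun hb => hA.transitive ha hb⟩)]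
  exact card_ne_zero_odd (by have := hA.two_le; omega)

theorem exists_sylow {a : W} (ha : a ≠ 0) : ∃ S : Sylow 2 G, ∀ s ∈ S, D.r s a = a := by
  haveI : Fact (Nat.Prime 2) := ⟨Nat.prime_two⟩
  obtain ⟨T⟩ : Nonempty (Sylow 2 (D.stab a)) := inferInstance
  have hT : ¬ 2 ∣ ((T : Subgroup (D.stab a)).map (D.stab a).subtype).index := by
    rw [Subgroup.index_map_subtype]
    intro h
    rcases (Nat.Prime.dvd_mul Nat.prime_two).1 h with h | h
    · exact T.not_dvd_index h
    · exact hA.index_odd ha h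
  refine ⟨(T.2.map _).toSylow hT, fun s hs => ?_⟩
  obtain ⟨t, -, rfl⟩ := hs
  exact t.2

/-- The stabilizer of a vector is transitive on the functionals not vanishing there, through any of
its Sylow 2-subgroups. -/
theorem sylow_trans {a : W} {S : Sylow 2 G} (hS : ∀ s ∈ S, D.r s a = a) {φ ψ : W'}
    (hφ : D.β a φ = 1) (hψ : D.β a ψ = 1) : ∃ s ∈ S, D.r' s φ = ψ := by
  haveI : Fact (Nat.Prime 2) := ⟨Nat.prime_two⟩
  letI A : MulAction ↥(D.stab a) W' := MulAction.compHom W' (D.r'.comp (D.stab a).subtype)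
  have hSa : (S : Subgroup G) ≤ D.stab a := fun s hs => hS s hs
  have hidx : (MulAction.stabilizer ↥(D.stab a) φ).index = 2 ^ (finrank F2 W' - 1) := by
    rw [MulAction.index_stabilizer, ← D.swap.card_β_one (D.ne_zero_of_β hφ).1, ← Nat.card_coe_set_eq]
    refine Nat.card_congr (Equiv.subtypeEquivRight fun ψ' => ⟨?_, fun h => ?_⟩)
    · rintro ⟨g, rfl⟩
      show D.β a (D.r' (g : G) φ) = 1
      rw [← hφ, ← D.inv (g : G) a φ, show D.r (g : G) a = a from g.2]
    · obtain ⟨g, hg, hg'⟩ := hA.antiflag a φ a ψ' hφ h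
      exact ⟨⟨g, hg⟩, hg'⟩
  obtain ⟨g, hg, hg'⟩ := hA.antiflag a φ a ψ hφ hψ
  obtain ⟨s, hs, hs'⟩ := sylow_orbit (S.subtype hSa) _ hidx ⟨g, hg⟩
  refine ⟨s, Subgroup.mem_subgroupOf.1 (show s ∈ (S : Subgroup G).subgroupOf (D.stab a) from hs), ?_⟩
  have h : D.r' ((s : G)⁻¹ * g) φ = φ := hs'
  rw [← hg', ← D.r'_apply_inv (s : G) (D.r' g φ)]
  refine congrArg (D.r' (s : G)) (h.symm.trans ?_)
  exact D.swap.r_mul _ _ φ

theorem R_β {a : W} {φ : W'} (h : D.R a φ) : D.β a φ = 0 := by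
  obtain ⟨ha, hφ, S, h1, h2⟩ := h
  by_contra hc
  have hc1 := f2_eq_one hc
  have hcard := D.swap.card_β_one ha
  have h1' : 1 < Nat.card {ψ : W' // D.β a ψ = 1} := by
    show 1 < Nat.card {ψ : W' // D.swap.β ψ a = 1}
    rw [hcard]
    exact Nat.one_lt_pow (by have := hA.two_le; rw [D.finrank_eq] at this; omega) one_lt_two
  haveI : Nontrivial {ψ : W' // D.β a ψ = 1} := Finite.one_lt_card_iff_nontrivial.1 h1'
  obtain ⟨ψ, hψ⟩ := exists_ne (⟨φ, hc1⟩ : {ψ : W' // D.β a ψ = 1})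
  obtain ⟨s, hs, hsψ⟩ := hA.sylow_trans h1 hc1 ψ.2
  exact hψ (Subtype.ext (hsψ.symm.trans (h2 s hs)))

theorem exists_R {a : W} (ha : a ≠ 0) : ∃ φ, D.R a φ := by
  haveI : Fact (Nat.Prime 2) := ⟨Nat.prime_two⟩
  obtain ⟨S, hS⟩ := hA.exists_sylow ha
  letI A : MulAction ↥(S : Subgroup G) {φ : W' // φ ≠ 0} :=
    { smul := fun s φ => ⟨D.r' (s : G) φ, fun e => φ.2 ((D.r' (s : G)).map_eq_zero_iff.1 e)⟩
      one_smul := fun φ => Subtype.ext (D.swap.r_one _)
      mul_smul := fun s t φ => Subtype.ext (D.swap.r_mul _ _ _) }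
  obtain ⟨φ, hφ⟩ := S.2.nonempty_fixed_point_of_prime_not_dvd_card _
    (card_ne_zero_odd (W := W') (by have := hA.two_le; rw [D.finrank_eq] at this; omega))
  exact ⟨φ, ha, φ.2, S, hS, fun s hs => congrArg Subtype.val (hφ ⟨s, hs⟩)⟩

theorem self_mem_P (a : W) : a ∈ D.P a := D.mem_P.2 fun _ h => hA.R_β h

theorem off_trans_flag {a : W} {φ : W'} (h : D.R a φ) {z z' : W} (hz : D.β z φ = 1) (hz' : D.β z' φ = 1) :
    ∃ g, D.r g a = a ∧ D.r g z = z' := by
  obtain ⟨-, -, S, h1, h2⟩ := h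
  obtain ⟨s, hs, hsz⟩ := hA.swap.sylow_trans (a := φ) h2 (φ := z) (ψ := z') hz hz'
  exact ⟨s, h1 s hs, hsz⟩

/-- The complement of `P a` is one orbit of the stabilizer. -/
theorem off_trans {a z z' : W} (hz : z ∉ D.P a) (hz' : z' ∉ D.P a) :
    ∃ g, D.r g a = a ∧ D.r g z = z' := by
  obtain ⟨φ, hφ, h1⟩ := D.exists_R_of_notMem hz
  obtain ⟨ψ, hψ, h2⟩ := D.exists_R_of_notMem hz'
  obtain ⟨w, hw1, hw2⟩ := D.swap.exists_one_one hφ.2.1 hψ.2.1
  obtain ⟨g, hg, hgz⟩ := hA.off_trans_flag hφ h1 hw1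
  obtain ⟨g', hg', hgz'⟩ := hA.off_trans_flag hψ hw2 h2
  exact ⟨g' * g, by rw [D.r_mul, hg, hg'], by rw [D.r_mul, hgz, hgz']⟩

/-- The stabilizer is transitive on the nonzero elements of `F a`. -/
theorem F_trans {a : W} {φ ψ : W'} (hφ : φ ∈ D.F a) (hφ0 : φ ≠ 0) (hψ : ψ ∈ D.F a) (hψ0 : ψ ≠ 0) :
    ∃ g, D.r g a = a ∧ D.r' g φ = ψ := by
  let E := D.sub (D.stab a).subtype (D.F a) fun g χ hχ => D.F_invariant g.2 hχ
  obtain ⟨g, hg⟩ := E.swap.transitive_of_dual (fun q q' hq hq' => by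
    induction q using Submodule.Quotient.induction_on with | _ z => ?_
    induction q' using Submodule.Quotient.induction_on with | _ z' => ?_
    obtain ⟨g, hg, hgz⟩ := hA.off_trans (a := a) (fun h => hq ((Submodule.Quotient.mk_eq_zero _).2 h))
      (fun h => hq' ((Submodule.Quotient.mk_eq_zero _).2 h))
    exact ⟨⟨g, hg⟩, congrArg Submodule.Quotient.mk hgz⟩)
    ⟨φ, hφ⟩ ⟨ψ, hψ⟩ (fun e => hφ0 (congrArg Subtype.val e)) fun e => hψ0 (congrArg Subtype.val e)
  exact ⟨g, g.2, congrArg Subtype.val hg⟩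

theorem mem_F {a : W} (ha : a ≠ 0) {φ : W'} (hφ : φ ≠ 0) : φ ∈ D.F a ↔ D.R a φ := by
  refine ⟨fun h => ?_, fun h => Submodule.subset_span h⟩
  obtain ⟨φ₀, h₀⟩ := hA.exists_R ha
  obtain ⟨g, hg, rfl⟩ := hA.F_trans (Submodule.subset_span h₀) h₀.2.1 h hφ
  have := D.R_map h₀ g
  rwa [hg] at this

theorem F_ne_bot {a : W} (ha : a ≠ 0) : D.F a ≠ ⊥ := fun h => by
  obtain ⟨φ, hφ⟩ := hA.exists_R ha
  have h' : φ ∈ D.F a := Submodule.subset_span hφ
  rw [h, Submodule.mem_bot] at h'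
  exact hφ.2.1 h'

theorem mem_F_swap {a : W} {φ : W'} (ha : a ≠ 0) (hφ : φ ≠ 0) : φ ∈ D.F a ↔ a ∈ D.swap.F φ := by
  rw [hA.mem_F ha hφ, hA.swap.mem_F hφ ha, D.swap_R]

theorem finrank_F_const {a b : W} (ha : a ≠ 0) (hb : b ≠ 0) : finrank F2 (D.F a) = finrank F2 (D.F b) := by
  obtain ⟨g, rfl⟩ := hA.transitive ha hb
  rw [D.F_map]
  exact ((D.r' g).submoduleMap (D.F a)).finrank_eq

theorem finrank_F_swap {a : W} {φ : W'} (ha : a ≠ 0) (hφ : φ ≠ 0) :
    finrank F2 (D.F a) = finrank F2 (D.swap.F φ) := by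
  haveI := Fintype.ofFinite W
  haveI := Fintype.ofFinite W'
  set A : Finset W := Finset.univ.filter (· ≠ 0)
  set B : Finset W' := Finset.univ.filter (· ≠ 0)
  have h := Finset.sum_card_bipartiteAbove_eq_sum_card_bipartiteBelow (s := A) (t := B) (r := D.R)
  have e1 : ∀ x ∈ A, (B.bipartiteAbove D.R x).card + 1 = 2 ^ finrank F2 (D.F a) := by
    intro x hx
    have hx0 : x ≠ 0 := (Finset.mem_filter.1 hx).2
    have e : (B.bipartiteAbove D.R x) = (Finset.univ.filter (fun φ : W' => φ ∈ D.F x)).erase 0 := by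
      ext ψ
      simp only [Finset.bipartiteAbove, B, Finset.mem_filter, Finset.mem_univ, true_and, Finset.mem_erase]
      exact and_congr_right fun hψ => (hA.mem_F hx0 hψ).symm
    rw [e, Finset.card_erase_add_one (by simp), hA.finrank_F_const ha hx0, ← Fintype.card_subtype,
      ← Nat.card_eq_fintype_card, Module.natCard_eq_pow_finrank (K := F2) (V := ↥(D.F x)), Nat.card_zmod]
  have e2 : ∀ ψ ∈ B, (A.bipartiteBelow D.R ψ).card + 1 = 2 ^ finrank F2 (D.swap.F φ) := by
    intro ψ hψ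
    have hψ0 : ψ ≠ 0 := (Finset.mem_filter.1 hψ).2
    have e : (A.bipartiteBelow D.R ψ) = (Finset.univ.filter (fun x : W => x ∈ D.swap.F ψ)).erase 0 := by
      ext x
      simp only [Finset.bipartiteBelow, A, Finset.mem_filter, Finset.mem_univ, true_and, Finset.mem_erase]
      exact and_congr_right fun hx => by rw [hA.swap.mem_F hψ0 hx, D.swap_R]
    rw [e, Finset.card_erase_add_one (by simp), hA.swap.finrank_F_const hφ hψ0, ← Fintype.card_subtype,
      ← Nat.card_eq_fintype_card, Module.natCard_eq_pow_finrank (K := F2) (V := ↥(D.swap.F ψ)), Nat.card_zmod]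
  have E1 : ∑ x ∈ A, (B.bipartiteAbove D.R x).card = A.card * (2 ^ finrank F2 (D.F a) - 1) :=
    Finset.sum_const_nat fun x hx => by have := e1 x hx; omega
  have E2 : ∑ ψ ∈ B, (A.bipartiteBelow D.R ψ).card = B.card * (2 ^ finrank F2 (D.swap.F φ) - 1) :=
    Finset.sum_const_nat fun ψ hψ => by have := e2 ψ hψ; omega
  rw [E1, E2] at h
  have hAB : A.card = B.card := by
    have hc := D.card_eq
    simp only [Nat.card_eq_fintype_card] at hc
    simp only [A, B, Finset.filter_ne', Finset.card_erase_of_mem (Finset.mem_univ _), Finset.card_univ, hc]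
  rw [hAB] at h
  have hB : 0 < B.card := Finset.card_pos.2 ⟨φ, by simp [B, hφ]⟩
  have := Nat.eq_of_mul_eq_mul_left hB h
  refine Nat.pow_right_injective le_rfl ?_
  have h1 := Nat.one_le_two_pow (n := finrank F2 (D.F a))
  have h2 := Nat.one_le_two_pow (n := finrank F2 (D.swap.F φ))
  show 2 ^ _ = 2 ^ _
  omega

theorem finrank_P {a : W} : finrank F2 (D.F a) + finrank F2 (D.P a) = finrank F2 W := D.finrank_ann _

theorem card_off {a : W} (ha : a ≠ 0) : 2 ^ (finrank F2 W - 1) ≤ Nat.card {z : W // z ∉ D.P a} := by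
  obtain ⟨φ, hφ⟩ := hA.exists_R ha
  rw [← D.card_β_one hφ.2.1]
  exact Nat.card_le_card_of_injective (fun z => ⟨z.1, fun h => by
    rw [D.mem_P] at h
    exact one_ne_zero (z.2.symm.trans (h φ hφ))⟩) fun x y h => Subtype.ext (congrArg (fun t => t.1) h :)

/-- Membership in `P` is symmetric. -/
theorem mem_P_comm {a z : W} (ha : a ≠ 0) (hz : z ≠ 0) : z ∈ D.P a ↔ a ∈ D.P z := by
  suffices h : ∀ a z : W, a ≠ 0 → z ≠ 0 → z ∉ D.P a → a ∉ D.P z from
    ⟨fun h1 => by_contra fun h2 => h z a hz ha h2 h1, fun h1 => by_contra fun h2 => h a z ha hz h2 h1⟩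
  intro a z ha hz hn hmem
  haveI := Fintype.ofFinite W
  set T : Finset (W × W) := Finset.univ.filter fun q => q.1 ≠ 0 ∧ q.2 ∉ D.P q.1 with hT
  set U : Finset (W × W) := Finset.univ.filter fun q => q.1 ≠ 0 ∧ q.2 ≠ 0 ∧ q.1 ≠ q.2 with hU
  -- a reversed pair never lies in the set
  have hrev : ∀ q ∈ T, q.swap ∉ T := by
    intro q hq hq'
    obtain ⟨hq1, hq2⟩ := (Finset.mem_filter.1 hq).2
    obtain ⟨-, hq2'⟩ := (Finset.mem_filter.1 hq').2
    obtain ⟨g, hg⟩ := hA.transitive ha hq1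
    have hgz : D.r g z ∉ D.P q.1 := by rw [← hg]; exact fun h => hn ((D.mem_P_map g).1 h)
    obtain ⟨k, hk, hkz⟩ := hA.off_trans hgz hq2
    refine hq2' ?_
    show q.1 ∈ D.P q.2
    rw [← hkz, ← hk, ← hg, D.mem_P_map, D.mem_P_map]
    exact hmem
  have hTU : T ⊆ U := fun q hq => by
    obtain ⟨h1, h2⟩ := (Finset.mem_filter.1 hq).2
    refine Finset.mem_filter.2 ⟨Finset.mem_univ _, h1, fun e => h2 (e ▸ zero_mem _), fun e => h2 ?_⟩
    rw [← e]; exact hA.self_mem_P _
  have hTU' : T.image Prod.swap ⊆ U := fun q hq => by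
    obtain ⟨q', hq', rfl⟩ := Finset.mem_image.1 hq
    obtain ⟨h1, h2, h3⟩ := (Finset.mem_filter.1 (hTU hq')).2
    exact Finset.mem_filter.2 ⟨Finset.mem_univ _, h2, h1, Ne.symm h3⟩
  have hdis : Disjoint T (T.image Prod.swap) := Finset.disjoint_left.2 fun q hq hq' => by
    obtain ⟨q', hq'', rfl⟩ := Finset.mem_image.1 hq'
    exact hrev _ hq'' hq
  have hle : 2 * T.card ≤ U.card := by
    rw [two_mul]
    nth_rw 2 [← Finset.card_image_of_injective T Prod.swap_injective]
    rw [← Finset.card_union_of_disjoint hdis]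
    exact Finset.card_le_card (Finset.union_subset hTU hTU')
  have hN : Fintype.card W = 2 ^ finrank F2 W := by
    rw [← Nat.card_eq_fintype_card, Module.natCard_eq_pow_finrank (K := F2) (V := W), Nat.card_zmod]
  set m := finrank F2 W
  have hUc : U.card = (2 ^ m - 1) * (2 ^ m - 2) := by
    rw [hU, Finset.card_filter, Fintype.sum_prod_type]
    rw [← Finset.sum_erase_add _ _ (Finset.mem_univ (0 : W))]
    simp only [ne_eq, not_true_eq_false, false_and, if_false, Finset.sum_const_zero, add_zero]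
    rw [Finset.sum_congr rfl fun x hx => show _ = 2 ^ m - 2 by
      have hx0 : x ≠ 0 := (Finset.mem_erase.1 hx).1
      rw [← Finset.card_filter, show (Finset.univ.filter fun y : W => ¬x = 0 ∧ ¬y = 0 ∧ ¬x = y) =
          (Finset.univ.erase (0 : W)).erase x by ext y; simp [hx0, eq_comm, and_comm],
        Finset.card_erase_of_mem (Finset.mem_erase.2 ⟨hx0, Finset.mem_univ _⟩),
        Finset.card_erase_of_mem (Finset.mem_univ _), Finset.card_univ, hN, Nat.sub_sub]]
    rw [Finset.sum_const, smul_eq_mul, Finset.card_erase_of_mem (Finset.mem_univ _), Finset.card_univ, hN]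
  have hTc : (2 ^ m - 1) * 2 ^ (m - 1) ≤ T.card := by
    rw [hT, Finset.card_filter, Fintype.sum_prod_type]
    refine le_trans ?_ (Finset.sum_le_sum_of_subset (Finset.erase_subset (0 : W) Finset.univ))
    rw [show (2 ^ m - 1) = (Finset.univ.erase (0 : W)).card by
      rw [Finset.card_erase_of_mem (Finset.mem_univ _), Finset.card_univ, hN], ← smul_eq_mul, ← Finset.sum_const]
    refine Finset.sum_le_sum fun x hx => ?_
    have hx0 : x ≠ 0 := (Finset.mem_erase.1 hx).1
    rw [← Finset.card_filter]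
    refine (hA.card_off hx0).trans (le_of_eq ?_)
    rw [Nat.card_eq_fintype_card, Fintype.card_subtype]
    congr 1
    ext y; simp [hx0]
  have hm := hA.two_le
  have h2 : 2 ^ m = 2 * 2 ^ (m - 1) := by rw [← pow_succ']; congr 1; omega
  have h1 : 0 < 2 ^ m - 1 := by
    have : 1 < 2 ^ m := Nat.one_lt_pow (by omega) one_lt_two
    omega
  have := hle.trans (le_of_eq hUc)
  have h3 : 2 * ((2 ^ m - 1) * 2 ^ (m - 1)) ≤ (2 ^ m - 1) * (2 ^ m - 2) :=
    (Nat.mul_le_mul_left 2 hTc).trans this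
  rw [mul_left_comm, ← h2] at h3
  have h4 := Nat.le_of_mul_le_mul_left h3 h1
  have h5 := Nat.two_pow_pos m
  omega

/-- The orbits of a group fixing `a` and transitive on the functionals not vanishing at `a` are
invariant under translation by `a`. -/
theorem orbit_shift {L : Subgroup G} {a : W} (ha : a ≠ 0) (hL : ∀ g ∈ L, D.r g a = a)
    (htr : ∀ φ ψ, D.β a φ = 1 → D.β a ψ = 1 → ∃ g ∈ L, D.r' g φ = ψ)
    {z : W} (hz : z ≠ 0) (hza : z ≠ a) : ∃ g ∈ L, D.r g z = z + a := by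
  haveI := Fintype.ofFinite W
  haveI := Fintype.ofFinite W'
  by_contra hno
  push Not at hno
  let s : F2 → ℤ := fun c => if c = 0 then 1 else -1
  have hs1 : s 1 = -1 := if_neg one_ne_zero
  have hs0 : s 0 = 1 := if_pos rfl
  have hsadd : ∀ c d, s (c + d) = s c * s d := by
    intro c d
    rcases f2_cases c with rfl | rfl <;> rcases f2_cases d with rfl | rfl
    · simp [hs0]
    · simp [hs0]
    · simp [hs0]
    · rw [show (1 : F2) + 1 = 0 from by decide, hs0, hs1]; norm_num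
  set O : Finset W := Finset.univ.filter fun w => ∃ g ∈ L, D.r g z = w with hO
  have hOne : ∀ w ∈ O, w ≠ 0 ∧ w ≠ a := by
    intro w hw
    obtain ⟨g, hg, rfl⟩ := (Finset.mem_filter.1 hw).2
    refine ⟨fun e => hz ((D.r g).map_eq_zero_iff.1 e), fun e => hza ((D.r g).injective ?_)⟩
    rw [e, hL g hg]
  -- character sums
  have hsum : ∀ v : W, ∑ ψ : W', s (D.β v ψ) = if v = 0 then (Fintype.card W' : ℤ) else 0 := by
    intro v
    split_ifs with hv
    · subst hv; simp [hs0]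
    · obtain ⟨η, hη⟩ := D.exists_one hv
      have e : ∑ ψ : W', s (D.β v ψ) = -∑ ψ : W', s (D.β v ψ) := by
        nth_rw 1 [← Equiv.sum_comp (Equiv.addRight η)]
        rw [← Finset.sum_neg_distrib]
        refine Finset.sum_congr rfl fun ψ _ => ?_
        simp only [Equiv.coe_addRight, map_add, hη, hsadd, hs1]
        ring
      omega
  -- the sums over the orbit vanish where `a` takes the value one
  have hhat : ∀ ψ, D.β a ψ = 1 → ∑ w ∈ O, s (D.β w ψ) = 0 := by
    intro ψ hψ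
    set A : Finset W' := Finset.univ.filter fun φ => D.β a φ = 1 with hA'
    have hconst : ∀ φ ∈ A, ∑ w ∈ O, s (D.β w φ) = ∑ w ∈ O, s (D.β w ψ) := by
      intro φ hφ
      obtain ⟨g, hg, rfl⟩ := htr ψ φ hψ (Finset.mem_filter.1 hφ).2
      refine Finset.sum_bij' (fun w _ => D.r g⁻¹ w) (fun w _ => D.r g w) (fun w hw => ?_) (fun w hw => ?_)
        (fun w _ => D.r_apply_inv g w) (fun w _ => D.r_inv_apply g w) fun w _ => by rw [D.β_inv_left]
      · obtain ⟨k, hk, rfl⟩ := (Finset.mem_filter.1 hw).2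
        exact Finset.mem_filter.2 ⟨Finset.mem_univ _, g⁻¹ * k, mul_mem (inv_mem hg) hk, D.r_mul _ _ _⟩
      · obtain ⟨k, hk, rfl⟩ := (Finset.mem_filter.1 hw).2
        exact Finset.mem_filter.2 ⟨Finset.mem_univ _, g * k, mul_mem hg hk, D.r_mul _ _ _⟩
    have h0 : ∑ φ ∈ A, ∑ w ∈ O, s (D.β w φ) = 0 := by
      rw [Finset.sum_comm]
      refine Finset.sum_eq_zero fun w hw => ?_
      obtain ⟨η, hη0, hη1⟩ := D.exists_one_zero (a := a) (b := w) (hOne w hw).1 (Ne.symm (hOne w hw).2)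
      have e : ∑ φ ∈ A, s (D.β w φ) = -∑ φ ∈ A, s (D.β w φ) := by
        nth_rw 1 [Finset.sum_bij' (s := A) (t := A) (g := fun φ => s (D.β w (φ + η)))
          (f := fun φ => s (D.β w φ)) (fun φ _ => φ + η) (fun φ _ => φ + η)]
        · rw [← Finset.sum_neg_distrib]
          refine Finset.sum_congr rfl fun φ _ => ?_
          rw [map_add, hη1, hsadd, hs1]; ring
        all_goals intro φ hφ
        · simpa [A, hη0] using hφ
        · simpa [A, hη0] using hφ
        · simp [add_assoc, add_self']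
        · simp [add_assoc, add_self']
        · simp [add_assoc, add_self']
      omega
    rw [Finset.sum_congr rfl hconst, Finset.sum_const, nsmul_eq_mul] at h0
    exact (mul_eq_zero.1 h0).resolve_left (Nat.cast_ne_zero.2 (Finset.card_pos.2
      ⟨ψ, Finset.mem_filter.2 ⟨Finset.mem_univ _, hψ⟩⟩).ne')
  have key : ∑ ψ : W', (1 - s (D.β a ψ)) * (s (D.β z ψ) * ∑ w ∈ O, s (D.β w ψ)) = 0 :=
    Finset.sum_eq_zero fun ψ _ => by
      rcases f2_cases (D.β a ψ) with h | h
      · rw [h, hs0]; ring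
      · rw [hhat ψ h]; ring
  have key' : ∑ ψ : W', (1 - s (D.β a ψ)) * (s (D.β z ψ) * ∑ w ∈ O, s (D.β w ψ)) =
      (Fintype.card W' : ℤ) := by
    have e : ∀ ψ : W', (1 - s (D.β a ψ)) * (s (D.β z ψ) * ∑ w ∈ O, s (D.β w ψ)) =
        ∑ w ∈ O, (s (D.β (z + w) ψ) - s (D.β (a + (z + w)) ψ)) := by
      intro ψ
      rw [Finset.mul_sum, Finset.mul_sum]
      refine Finset.sum_congr rfl fun w _ => ?_
      simp only [map_add, LinearMap.add_apply, hsadd]
      ring
    rw [Finset.sum_congr rfl fun ψ _ => e ψ, Finset.sum_comm]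
    simp only [Finset.sum_sub_distrib, hsum]
    have hza' : z + a ∉ O := fun h => by
      obtain ⟨g, hg, hgz⟩ := (Finset.mem_filter.1 h).2
      exact hno g hg hgz
    have hzO : z ∈ O := Finset.mem_filter.2 ⟨Finset.mem_univ _, 1, one_mem L, D.r_one z⟩
    have i1 : ∀ w : W, (z + w = 0) ↔ z = w := fun w => add_eq_zero_iff'
    have i2 : ∀ w : W, (a + (z + w) = 0) ↔ z + a = w := fun w => by
      rw [← add_assoc, add_eq_zero_iff', add_comm a z]
    simp only [i1, i2, Finset.sum_ite_eq, hzO, hza', if_true, if_false, sub_zero]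
  rw [key] at key'
  exact Fintype.card_ne_zero (by exact_mod_cast key'.symm : Fintype.card W' = 0)

end AT

/-- An invariant set spanning a submodule, with antiflag transitive stabilizers, is everything. -/
theorem span_orbit (D : Duo G W W') {M : Submodule F2 W} {C : Set W} (L : Subgroup G)
    (hCM : C ⊆ M) (hC0 : ∀ a ∈ C, a ≠ 0) (hspan : M ≤ Submodule.span F2 C) (hne : C.Nonempty)
    (hL : ∀ g ∈ L, ∀ a ∈ C, D.r g a ∈ C) (hM : ∀ g ∈ L, ∀ a ∈ M, D.r g a ∈ M)
    (htr : ∀ a ∈ C, ∀ φ ψ, D.β a φ = 1 → D.β a ψ = 1 → ∃ g ∈ L, D.r g a = a ∧ D.r' g φ = ψ) :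
    ∀ a ∈ M, a ≠ 0 → a ∈ C := by
  let E := D.swap.sub L.subtype M fun g a ha => hM g g.2 a ha
  have hq : ∀ q : W' ⧸ D.swap.ann M, q ≠ 0 → ∀ q', q' ≠ 0 → ∃ g, E.r g q = q' := by
    intro q hq q' hq'
    induction q using Submodule.Quotient.induction_on with | _ φ => ?_
    induction q' using Submodule.Quotient.induction_on with | _ ψ => ?_
    have hex : ∀ χ : W', Submodule.Quotient.mk (p := D.swap.ann M) χ ≠ 0 → ∃ a ∈ C, D.β a χ = 1 := by
      intro χ hχ
      by_contra h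
      push Not at h
      refine hχ ((Submodule.Quotient.mk_eq_zero _).2 (D.swap.mem_ann.2 fun a ha => ?_))
      have ha' := hspan ha
      induction ha' using Submodule.span_induction with
      | mem x hx => exact (f2_cases _).resolve_right (h x hx)
      | zero => simp
      | add x y hx hy h1 h2 =>
        have hx' : x ∈ M := (Submodule.span_le.2 hCM) hx
        have hy' : y ∈ M := (Submodule.span_le.2 hCM) hy
        show D.β (x + y) χ = 0
        rw [map_add, LinearMap.add_apply, show D.β x χ = 0 from h1 hx', show D.β y χ = 0 from h2 hy', add_zero]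
      | smul c x hx h1 =>
        show D.β (c • x) χ = 0
        rw [map_smul, LinearMap.smul_apply, show D.β x χ = 0 from h1 ((Submodule.span_le.2 hCM) hx), smul_zero]
    obtain ⟨a, ha, hφa⟩ := hex φ hq
    obtain ⟨b, hb, hψb⟩ := hex ψ hq'
    obtain ⟨η, hη1, hη2⟩ := D.exists_one_one (hC0 a ha) (hC0 b hb)
    obtain ⟨g, hg, -, hg'⟩ := htr a ha φ η hφa hη1
    obtain ⟨k, hk, -, hk'⟩ := htr b hb η ψ hη2 hψb
    exact ⟨⟨k * g, mul_mem hk hg⟩, congrArg Submodule.Quotient.mk
      (show D.r' (k * g) φ = ψ by rw [← swap_r, D.swap.r_mul, swap_r, hg', hk'])⟩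
  obtain ⟨b, hb⟩ := hne
  intro a ha ha0
  obtain ⟨g, hg⟩ := E.swap.transitive_of_dual (fun q q' h h' => hq q h q' h') ⟨b, hCM hb⟩ ⟨a, ha⟩
    (fun e => hC0 b hb (congrArg Subtype.val e)) fun e => ha0 (congrArg Subtype.val e)
  rw [show a = D.r (g : G) b from (congrArg Subtype.val hg).symm]
  exact hL g g.2 b hb

end Duo

end CfsgLib.MersenneLin
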