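import Mathlib

/-!
# Two modules over the field with two elements in duality under a group

The orbits on the two modules and on a submodule with the dual quotient.
-/

set_option autoImplicit false
set_option linter.unusedSectionVars false
set_option linter.style.haveILetI false

namespace CfsgLib.MersenneLin

open Module

abbrev F2 := ZMod 2

theorem f2_cases (c : F2) : c = 0 ∨ c = 1 := by
  fin_cases c
  · exact Or.inl rfl
  · exact Or.inr rfl

theorem f2_eq_one {c : F2} (h : c ≠ 0) : c = 1 := (f2_cases c).resolve_left h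

theorem add_self' {W : Type*} [AddCommGroup W] [Module F2 W] (w : W) : w + w = 0 := by
  have h : ((1 : F2) + 1) • w = 0 := by rw [show (1 : F2) + 1 = 0 from by decide, zero_smul]
  rwa [add_smul, one_smul] at h

theorem add_eq_zero_iff' {W : Type*} [AddCommGroup W] [Module F2 W] {a b : W} : a + b = 0 ↔ a = b := by
  constructor
  · intro h
    calc a = a + (b + b) := by rw [add_self', add_zero]
      _ = (a + b) + b := by rw [add_assoc]
      _ = b := by rw [h, zero_add]
  · rintro rfl; exact add_self' a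

instance finite_quotient {W : Type*} [AddCommGroup W] [Module F2 W] [Finite W] (Φ : Submodule F2 W) :
    Finite (W ⧸ Φ) := Finite.of_surjective _ (Submodule.Quotient.mk_surjective Φ)

universe u v w

variable {G : Type u} [Group G] {W : Type v} {W' : Type w} [AddCommGroup W] [Module F2 W]
  [AddCommGroup W'] [Module F2 W']

/-- Two modules in perfect duality, with compatible actions. -/
structure Duo (G : Type u) [Group G] (W : Type v) (W' : Type w) [AddCommGroup W] [Module F2 W]
    [AddCommGroup W'] [Module F2 W'] where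
  r : G →* (W ≃ₗ[F2] W)
  r' : G →* (W' ≃ₗ[F2] W')
  β : W →ₗ[F2] W' →ₗ[F2] F2
  nd : ∀ w, (∀ φ, β w φ = 0) → w = 0
  nd' : ∀ φ, (∀ w, β w φ = 0) → φ = 0
  inv : ∀ g w φ, β (r g w) (r' g φ) = β w φ

namespace Duo

variable (D : Duo G W W')

/-- The two modules exchanged. -/
def swap : Duo G W' W where
  r := D.r'
  r' := D.r
  β := D.β.flip
  nd := D.nd'
  nd' := D.nd
  inv g φ w := D.inv g w φ

@[simp] theorem swap_r : D.swap.r = D.r' := rfl
@[simp] theorem swap_r' : D.swap.r' = D.r := rfl
@[simp] theorem swap_β (φ : W') (w : W) : D.swap.β φ w = D.β w φ := rfl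
@[simp] theorem swap_swap : D.swap.swap = D := rfl

theorem r_mul (g h : G) (w : W) : D.r (g * h) w = D.r g (D.r h w) := by rw [map_mul]; rfl

theorem r_one (w : W) : D.r 1 w = w := by rw [map_one]; rfl

theorem r_inv_apply (g : G) (w : W) : D.r g⁻¹ (D.r g w) = w := by
  rw [← r_mul, inv_mul_cancel, r_one]

theorem r_apply_inv (g : G) (w : W) : D.r g (D.r g⁻¹ w) = w := by
  rw [← r_mul, mul_inv_cancel, r_one]

theorem r'_apply_inv (g : G) (φ : W') : D.r' g (D.r' g⁻¹ φ) = φ := D.swap.r_apply_inv g φ

theorem β_inv_left (g : G) (w : W) (φ : W') : D.β (D.r g⁻¹ w) φ = D.β w (D.r' g φ) := by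
  conv_rhs => rw [← D.r_apply_inv g w]
  rw [D.inv]

/-- The stabilizer of a vector. -/
def stab (a : W) : Subgroup G where
  carrier := {g | D.r g a = a}
  one_mem' := D.r_one a
  mul_mem' {g h} hg hh := by
    show D.r (g * h) a = a
    rw [D.r_mul, hh, hg]
  inv_mem' {g} hg := by
    show D.r g⁻¹ a = a
    nth_rw 1 [← hg]
    exact D.r_inv_apply g a

theorem mem_stab {a : W} {g : G} : g ∈ D.stab a ↔ D.r g a = a := Iff.rfl

section Finite

variable [Finite W] [Finite W']

include D in
theorem finrank_eq : finrank F2 W = finrank F2 W' := by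
  refine le_antisymm ?_ ?_
  · have h : Function.Injective D.β := (injective_iff_map_eq_zero _).2 fun w hw =>
      D.nd w fun φ => by rw [hw]; rfl
    exact (LinearMap.finrank_le_finrank_of_injective h).trans Subspace.dual_finrank_eq.le
  · have h : Function.Injective D.β.flip := (injective_iff_map_eq_zero _).2 fun φ hφ =>
      D.nd' φ fun w => by rw [← LinearMap.flip_apply D.β w φ, hφ]; rfl
    exact (LinearMap.finrank_le_finrank_of_injective h).trans Subspace.dual_finrank_eq.le

include D in
theorem card_eq : Nat.card W = Nat.card W' := by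
  rw [Module.natCard_eq_pow_finrank (K := F2) (V := W), Module.natCard_eq_pow_finrank (K := F2) (V := W'), D.finrank_eq]

/-- Every functional is a value of the pairing. -/
theorem exists_eval (f : W' →ₗ[F2] F2) : ∃ w, ∀ φ, D.β w φ = f φ := by
  have h : Function.Injective D.β := (injective_iff_map_eq_zero _).2 fun w hw =>
    D.nd w fun φ => by rw [hw]; rfl
  have hs := (LinearMap.injective_iff_surjective_of_finrank_eq_finrank
    (show finrank F2 W = finrank F2 (W' →ₗ[F2] F2) by rw [D.finrank_eq]; exact Subspace.dual_finrank_eq.symm)).1 h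
  obtain ⟨w, hw⟩ := hs f
  exact ⟨w, fun φ => by rw [hw]⟩

/-- The vectors orthogonal to a submodule. -/
def ann (Φ : Submodule F2 W') : Submodule F2 W := Φ.dualAnnihilator.comap D.β

theorem mem_ann {Φ : Submodule F2 W'} {w : W} : w ∈ D.ann Φ ↔ ∀ φ ∈ Φ, D.β w φ = 0 := by
  rw [ann, Submodule.mem_comap, Submodule.mem_dualAnnihilator]

theorem finrank_ann (Φ : Submodule F2 W') : finrank F2 Φ + finrank F2 (D.ann Φ) = finrank F2 W := by
  have h : Function.Injective D.β := (injective_iff_map_eq_zero _).2 fun w hw =>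
    D.nd w fun φ => by rw [hw]; rfl
  have hs := (LinearMap.injective_iff_surjective_of_finrank_eq_finrank
    (show finrank F2 W = finrank F2 (W' →ₗ[F2] F2) by rw [D.finrank_eq]; exact Subspace.dual_finrank_eq.symm)).1 h
  have e : finrank F2 (D.ann Φ) = finrank F2 Φ.dualAnnihilator := by
    have e1 : (D.ann Φ).map D.β = Φ.dualAnnihilator := Submodule.map_comap_eq_of_surjective hs _
    rw [← e1]
    exact (Submodule.equivMapOfInjective D.β h (D.ann Φ)).finrank_eq
  rw [e, D.finrank_eq]
  exact Subspace.finrank_add_finrank_dualAnnihilator_eq Φ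

theorem ann_ann (Φ : Submodule F2 W') : D.swap.ann (D.ann Φ) = Φ := by
  have h1 : Φ ≤ D.swap.ann (D.ann Φ) := fun φ hφ => D.swap.mem_ann.2 fun w hw => D.mem_ann.1 hw φ hφ
  refine (Submodule.eq_of_le_of_finrank_eq h1 ?_).symm
  have e1 := D.finrank_ann Φ
  have e2 := D.swap.finrank_ann (D.ann Φ)
  have e3 := D.finrank_eq
  omega

/-- A functional taking the value one on two given nonzero vectors. -/
theorem exists_one_one {a b : W} (ha : a ≠ 0) (hb : b ≠ 0) :
    ∃ φ, D.β a φ = 1 ∧ D.β b φ = 1 := by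
  have key : ∀ c : W, c ≠ 0 → ∃ φ, D.β c φ = 1 := by
    intro c hc
    by_contra h
    push Not at h
    exact hc (D.nd c fun φ => (f2_cases _).resolve_right (h φ))
  obtain ⟨φ, hφ⟩ := key a ha
  obtain ⟨ψ, hψ⟩ := key b hb
  rcases f2_cases (D.β b φ) with h1 | h1
  · rcases f2_cases (D.β a ψ) with h2 | h2
    · exact ⟨φ + ψ, by rw [map_add, hφ, h2, add_zero], by rw [map_add, h1, hψ, zero_add]⟩
    · exact ⟨ψ, h2, hψ⟩
  · exact ⟨φ, hφ, h1⟩

theorem exists_one {a : W} (ha : a ≠ 0) : ∃ φ, D.β a φ = 1 :=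
  (D.exists_one_one ha ha).imp fun _ h => h.1

/-- A functional separating two different nonzero vectors. -/
theorem exists_one_zero {a b : W} (hb : b ≠ 0) (hab : a ≠ b) :
    ∃ φ, D.β a φ = 0 ∧ D.β b φ = 1 := by
  by_cases ha : a = 0
  · obtain ⟨φ, hφ⟩ := D.exists_one hb
    exact ⟨φ, by rw [ha, map_zero]; rfl, hφ⟩
  obtain ⟨φ, h1, h2⟩ := D.exists_one_one (show a + b ≠ 0 from fun h => hab (add_eq_zero_iff'.1 h)) hb
  refine ⟨φ, ?_, h2⟩
  rw [map_add, LinearMap.add_apply, h2] at h1
  rcases f2_cases (D.β a φ) with h | h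
  · exact h
  · rw [h] at h1; exact absurd h1 (by decide)

theorem card_fixed_eq (g : G) : Nat.card {w // D.r g w = w} = Nat.card {φ // D.r' g φ = φ} := by
  set T : W →ₗ[F2] W := (D.r g).toLinearMap - LinearMap.id with hT
  have e1 : Nat.card {w // D.r g w = w} = Nat.card (LinearMap.ker T) :=
    Nat.card_congr (Equiv.subtypeEquivRight fun w => by simp [hT, sub_eq_zero])
  have hfix : ∀ φ, D.r' g φ = φ ↔ φ ∈ D.swap.ann (LinearMap.range T) := by
    intro φ
    rw [mem_ann]
    constructor
    · rintro h _ ⟨w, rfl⟩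
      show D.β (T w) φ = 0
      simp only [hT, LinearMap.sub_apply, LinearEquiv.coe_coe, LinearMap.id_apply, map_sub]
      nth_rw 1 [← h]
      rw [D.inv, sub_self]
    · intro h
      have h0 : D.r' g φ - φ = 0 := by
        refine D.nd' _ fun w => ?_
        rw [map_sub, sub_eq_zero]
        have hw := h _ ⟨D.r g⁻¹ w, rfl⟩
        simp only [swap_β, hT, LinearMap.sub_apply, LinearEquiv.coe_coe, LinearMap.id_apply, map_sub,
          D.r_apply_inv, sub_eq_zero] at hw
        rw [hw, D.β_inv_left]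
      exact sub_eq_zero.1 h0
  have e2 : Nat.card {φ // D.r' g φ = φ} = Nat.card (D.swap.ann (LinearMap.range T)) :=
    Nat.card_congr (Equiv.subtypeEquivRight hfix)
  rw [e1, e2, Module.natCard_eq_pow_finrank (K := F2) (V := ↥(LinearMap.ker T)),
    Module.natCard_eq_pow_finrank (K := F2) (V := ↥(D.swap.ann (LinearMap.range T)))]
  have h1 := D.swap.finrank_ann (LinearMap.range T)
  have h2 := T.finrank_range_add_finrank_ker
  have h3 := D.finrank_eq
  congr 1
  omega

end Finite

end Duo

section Orbits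

variable [Finite G]

theorem sum_fixed_eq_orbits_mul (X : Type*) [Finite X] [MulAction G X] [Fintype G] :
    ∑ g : G, Nat.card {x : X // g • x = x} =
      Nat.card (Quotient (MulAction.orbitRel G X)) * Nat.card G := by
  classical
  haveI := Fintype.ofFinite X
  have h := MulAction.sum_card_fixedBy_eq_card_orbits_mul_card_group G X
  simp only [← Nat.card_eq_fintype_card] at h
  exact h

end Orbits

namespace Duo

variable [Finite G] [Finite W] [Finite W'] (D : Duo G W W')

/-- The action on the first module. -/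
@[reducible] def act : MulAction G W where
  smul g w := D.r g w
  one_smul w := D.r_one w
  mul_smul g h w := D.r_mul g h w

/-- The action on pairs of vectors. -/
@[reducible] def act2 : MulAction G (W × W) where
  smul g q := (D.r g q.1, D.r g q.2)
  one_smul q := Prod.ext (D.r_one _) (D.r_one _)
  mul_smul g h q := Prod.ext (D.r_mul g h _) (D.r_mul g h _)

/-- The action on pairs of a vector and a functional. -/
@[reducible] def act3 : MulAction G (W × W') where
  smul g q := (D.r g q.1, D.r' g q.2)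
  one_smul q := Prod.ext (D.r_one _) (D.swap.r_one _)
  mul_smul g h q := Prod.ext (D.r_mul g h _) (D.swap.r_mul g h _)

/-- Transitivity on nonzero functionals gives transitivity on nonzero vectors. -/
theorem transitive_of_dual (h : ∀ φ ψ : W', φ ≠ 0 → ψ ≠ 0 → ∃ g, D.r' g φ = ψ) :
    ∀ a b : W, a ≠ 0 → b ≠ 0 → ∃ g, D.r g a = b := by
  classical
  haveI := Fintype.ofFinite G
  intro a b ha hb
  letI A1 : MulAction G W := D.act
  letI A2 : MulAction G W' := D.swap.act
  have e1 := sum_fixed_eq_orbits_mul (G := G) W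
  have e2 := sum_fixed_eq_orbits_mul (G := G) W'
  have he : (∑ g : G, Nat.card {x : W // g • x = x}) = ∑ g : G, Nat.card {x : W' // g • x = x} :=
    Finset.sum_congr rfl fun g _ => D.card_fixed_eq g
  rw [e1, e2] at he
  have he' := Nat.eq_of_mul_eq_mul_right Nat.card_pos he
  -- at most two orbits on the functionals
  have h2 : Nat.card (Quotient (MulAction.orbitRel G W')) ≤ 2 := by
    rw [show 2 = Nat.card Bool by simp]
    refine Nat.card_le_card_of_injective (fun q => Quotient.liftOn' q (fun φ => decide (φ = 0)) ?_) ?_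
    · rintro φ ψ ⟨g, rfl⟩
      show decide (D.r' g ψ = 0) = decide (ψ = 0)
      rw [decide_eq_decide]
      exact LinearEquiv.map_eq_zero_iff _
    · intro q q'
      induction q using Quotient.inductionOn' with | h φ => ?_
      induction q' using Quotient.inductionOn' with | h ψ => ?_
      intro hq
      simp only [Quotient.liftOn'_mk'', decide_eq_decide] at hq
      refine Quotient.sound' ?_
      by_cases hφ : φ = 0
      · rw [hφ, hq.1 hφ]
      · obtain ⟨g, hg⟩ := h ψ φ (fun e => hφ (hq.2 e)) hφ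
        exact ⟨g, hg⟩
  by_contra hne
  push Not at hne
  have h3 : 3 ≤ Nat.card (Quotient (MulAction.orbitRel G W)) := by
    rw [show 3 = Nat.card (Fin 3) by simp]
    refine Nat.card_le_card_of_injective
      (fun i => Quotient.mk'' (![0, a, b] i : W) : Fin 3 → Quotient (MulAction.orbitRel G W)) ?_
    intro i j hij
    have hij' : ∃ g, D.r g (![0, a, b] j) = ![0, a, b] i := Quotient.exact' hij
    obtain ⟨g, hg⟩ := hij'
    fin_cases i <;> fin_cases j <;> simp at hg ⊢
    · exact ha hg
    · exact hb hg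
    · exact ha hg.symm
    · exact hne g⁻¹ (by rw [← hg, D.r_inv_apply])
    · exact hb hg.symm
    · exact hne g hg
  omega

/-- A group doubly transitive on the nonzero vectors is transitive on flags and on antiflags. -/
theorem pairs_transitive (hm : 2 ≤ finrank F2 W)
    (h2 : ∀ a b c d : W, a ≠ 0 → b ≠ 0 → a ≠ b → c ≠ 0 → d ≠ 0 → c ≠ d →
      ∃ g, D.r g a = c ∧ D.r g b = d) :
    ∀ a φ b ψ, a ≠ 0 → φ ≠ 0 → b ≠ 0 → ψ ≠ 0 → D.β a φ = D.β b ψ →
      ∃ g, D.r g a = b ∧ D.r' g φ = ψ := by
  classical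
  haveI := Fintype.ofFinite G
  letI A1 : MulAction G (W × W) := D.act2
  letI A2 : MulAction G (W × W') := D.act3
  have e1 := sum_fixed_eq_orbits_mul (G := G) (W × W)
  have e2 := sum_fixed_eq_orbits_mul (G := G) (W × W')
  have he : (∑ g : G, Nat.card {x : W × W // g • x = x}) = ∑ g : G, Nat.card {x : W × W' // g • x = x} := by
    refine Finset.sum_congr rfl fun g _ => ?_
    rw [Nat.card_congr (show {x : W × W // g • x = x} ≃ {w // D.r g w = w} × {w // D.r g w = w} from
        (Equiv.subtypeEquivRight fun x => Prod.ext_iff).trans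
          (Equiv.subtypeProdEquivProd (p := fun w => D.r g w = w) (q := fun w => D.r g w = w))),
      Nat.card_congr (show {x : W × W' // g • x = x} ≃ {w // D.r g w = w} × {φ // D.r' g φ = φ} from
        (Equiv.subtypeEquivRight fun x => Prod.ext_iff).trans
          (Equiv.subtypeProdEquivProd (p := fun w => D.r g w = w) (q := fun φ => D.r' g φ = φ))),
      Nat.card_prod, Nat.card_prod, D.card_fixed_eq]
  rw [e1, e2] at he
  have he' := Nat.eq_of_mul_eq_mul_right Nat.card_pos he
  -- at most five orbits on pairs of vectors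
  let t1 : W × W → Fin 5 := fun q =>
    if q.1 = 0 then (if q.2 = 0 then 0 else 1) else if q.2 = 0 then 2 else if q.1 = q.2 then 3 else 4
  have htr1 : ∀ x y : W, x ≠ 0 → y ≠ 0 → ∃ g, D.r g x = y := by
    intro x y hx hy
    by_cases hxy : x = y
    · exact ⟨1, hxy ▸ D.r_one x⟩
    obtain ⟨g, hg, -⟩ := h2 x y y x hx hy hxy hy hx (Ne.symm hxy)
    exact ⟨g, hg⟩
  have h5 : Nat.card (Quotient (MulAction.orbitRel G (W × W))) ≤ 5 := by
    rw [show 5 = Nat.card (Fin 5) by simp]
    refine Nat.card_le_card_of_injective (fun q => Quotient.liftOn' q t1 ?_) ?_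
    · rintro q q' ⟨g, rfl⟩
      show t1 (D.r g q'.1, D.r g q'.2) = t1 q'
      simp only [t1, LinearEquiv.map_eq_zero_iff, (D.r g).injective.eq_iff]
    · intro q q'
      induction q using Quotient.inductionOn' with | h x => ?_
      induction q' using Quotient.inductionOn' with | h y => ?_
      intro hq
      simp only [Quotient.liftOn'_mk'', t1] at hq
      refine Quotient.sound' (?_ : ∃ g, (D.r g y.1, D.r g y.2) = x)
      obtain ⟨x1, x2⟩ := x
      obtain ⟨y1, y2⟩ := y
      simp only [Prod.mk.injEq]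
      have key : (x1 = 0 ↔ y1 = 0) ∧ (x2 = 0 ↔ y2 = 0) ∧ (x1 = x2 ↔ y1 = y2) := by
        by_cases hx1 : x1 = 0 <;> by_cases hx2 : x2 = 0 <;> by_cases hy1 : y1 = 0 <;>
          by_cases hy2 : y2 = 0 <;> by_cases hx : x1 = x2 <;> by_cases hy : y1 = y2 <;>
          simp [hx1, hx2, hy1, hy2, hx, hy] at hq ⊢ <;> simp_all [eq_comm]
      obtain ⟨k1, k2, k3⟩ := key
      by_cases hy1 : y1 = 0
      · rw [k1.2 hy1, hy1]
        by_cases hy2 : y2 = 0
        · exact ⟨1, D.r_one 0, by rw [k2.2 hy2, hy2]; exact D.r_one 0⟩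
        · obtain ⟨g, hg⟩ := htr1 y2 x2 hy2 (fun h => hy2 (k2.1 h))
          exact ⟨g, map_zero _, hg⟩
      · have hx1 : x1 ≠ 0 := fun h => hy1 (k1.1 h)
        obtain ⟨g, hg⟩ := htr1 y1 x1 hy1 hx1
        by_cases hy2 : y2 = 0
        · exact ⟨g, hg, by rw [k2.2 hy2, hy2]; exact map_zero _⟩
        by_cases hy : y1 = y2
        · exact ⟨g, hg, by rw [← hy, ← k3.2 hy]; exact hg⟩
        · exact h2 y1 y2 x1 x2 hy1 hy2 hy hx1 (fun h => hy2 (k2.1 h)) fun h => hy (k3.1 h)
  -- five types of pairs of a vector and a functional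
  let t2 : W × W' → Fin 5 := fun q =>
    if q.1 = 0 then (if q.2 = 0 then 0 else 1) else if q.2 = 0 then 2 else if D.β q.1 q.2 = 0 then 3 else 4
  let f : Quotient (MulAction.orbitRel G (W × W')) → Fin 5 := fun q => Quotient.liftOn' q t2 (by
    rintro q q' ⟨g, rfl⟩
    show t2 (D.r g q'.1, D.r' g q'.2) = t2 q'
    simp only [t2, LinearEquiv.map_eq_zero_iff, D.inv])
  obtain ⟨w, hw⟩ : ∃ w : W, w ≠ 0 := by
    haveI : Nontrivial W := Module.nontrivial_of_finrank_pos (R := F2) (by omega)
    exact exists_ne 0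
  obtain ⟨φ₁, hφ₁⟩ := D.exists_one hw
  have hφ₁0 : φ₁ ≠ 0 := fun e => by rw [e, map_zero] at hφ₁; exact zero_ne_one hφ₁
  obtain ⟨φ₀, hφ₀0, hφ₀⟩ : ∃ φ₀ : W', φ₀ ≠ 0 ∧ D.β w φ₀ = 0 := by
    obtain ⟨v, hv, hvw⟩ : ∃ v : W, v ≠ 0 ∧ v ≠ w := by
      by_contra hc
      push Not at hc
      have hle : finrank F2 W ≤ 1 := finrank_le_one w fun v => by
        by_cases hv : v = 0
        · exact ⟨0, by rw [zero_smul, hv]⟩
        · exact ⟨1, by rw [one_smul, hc v hv]⟩
      omega
    obtain ⟨φ, h0, h1⟩ := D.exists_one_zero hv (Ne.symm hvw)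
    exact ⟨φ, fun e => by rw [e, map_zero] at h1; exact zero_ne_one h1, h0⟩
  have hsurj : Function.Surjective f := by
    intro i
    fin_cases i
    · exact ⟨Quotient.mk'' ((0 : W), (0 : W')), by simp [f, t2]⟩
    · exact ⟨Quotient.mk'' ((0 : W), φ₁), by simp [f, t2, hφ₁0]⟩
    · exact ⟨Quotient.mk'' (w, (0 : W')), by simp [f, t2, hw]⟩
    · exact ⟨Quotient.mk'' (w, φ₀), by simp [f, t2, hw, hφ₀0, hφ₀]⟩
    · exact ⟨Quotient.mk'' (w, φ₁), by simp [f, t2, hw, hφ₁0, hφ₁]⟩
  have hbij : Function.Bijective f :=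
    (Nat.bijective_iff_surjective_and_card f).2 ⟨hsurj, le_antisymm (by rw [← he']; simpa using h5)
      (Nat.card_le_card_of_surjective f hsurj)⟩
  intro a φ b ψ ha hφ hb hψ hab
  have e : f (Quotient.mk'' (b, ψ)) = f (Quotient.mk'' (a, φ)) := by
    simp [f, t2, ha, hφ, hb, hψ, hab]
  obtain ⟨g, hg⟩ := Quotient.exact' (hbij.1 e)
  exact ⟨g, congrArg Prod.fst hg, congrArg Prod.snd hg⟩

end Duo

/-- The duo on a quotient and a submodule. -/
def Duo.sub [Finite W] [Finite W'] (D : Duo G W W') {G₁ : Type*} [Group G₁] (f : G₁ →* G) (Φ : Submodule F2 W')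
    (hinv : ∀ g, ∀ φ ∈ Φ, D.r' (f g) φ ∈ Φ) : Duo G₁ (W ⧸ D.ann Φ) ↥Φ where
  r :=
    { toFun := fun g => Submodule.Quotient.equiv (D.ann Φ) (D.ann Φ) (D.r (f g)) (by
        refine le_antisymm ?_ ?_
        · rintro _ ⟨w, hw, rfl⟩
          refine D.mem_ann.2 fun φ hφ => ?_
          have e := D.β_inv_left (f g⁻¹) w φ
          rw [map_inv f g, inv_inv] at e
          show D.β (D.r (f g) w) φ = 0
          rw [e]
          refine D.mem_ann.1 hw _ ?_
          have := hinv g⁻¹ φ hφ
          rwa [map_inv f g] at this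
        · intro w hw
          refine ⟨D.r (f g)⁻¹ w, D.mem_ann.2 fun φ hφ => ?_, D.r_apply_inv _ _⟩
          rw [D.β_inv_left]
          exact D.mem_ann.1 hw _ (hinv g φ hφ))
      map_one' := LinearEquiv.ext fun q => by
        induction q using Submodule.Quotient.induction_on with | _ w => ?_
        simp
      map_mul' := fun g h => LinearEquiv.ext fun q => by
        induction q using Submodule.Quotient.induction_on with | _ w => ?_
        simp }
  r' :=
    { toFun := fun g =>
        { toFun := fun φ => ⟨D.r' (f g) φ, hinv g φ φ.2⟩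
          invFun := fun φ => ⟨D.r' (f g⁻¹) φ, hinv g⁻¹ φ φ.2⟩
          map_add' := fun a b => Subtype.ext (map_add _ _ _)
          map_smul' := fun c a => Subtype.ext (map_smul _ _ _)
          left_inv := fun φ => Subtype.ext (by
            show D.r' (f g⁻¹) (D.r' (f g) φ) = φ
            rw [map_inv f g]; exact D.swap.r_inv_apply _ _)
          right_inv := fun φ => Subtype.ext (by
            show D.r' (f g) (D.r' (f g⁻¹) φ) = φ
            rw [map_inv f g]; exact D.swap.r_apply_inv _ _) }
      map_one' := LinearEquiv.ext fun φ => Subtype.ext (by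
        show D.r' (f 1) φ = φ
        rw [map_one f]; exact D.swap.r_one _)
      map_mul' := fun g h => LinearEquiv.ext fun φ => Subtype.ext (by
        show D.r' (f (g * h)) φ = D.r' (f g) (D.r' (f h) φ)
        rw [map_mul f]; exact D.swap.r_mul _ _ _) }
  β := (D.ann Φ).liftQ (LinearMap.lcomp F2 F2 Φ.subtype ∘ₗ D.β)
    fun w hw => LinearMap.mem_ker.2 (LinearMap.ext fun φ => D.mem_ann.1 hw φ φ.2)
  nd q := by
    induction q using Submodule.Quotient.induction_on with | _ w => ?_
    intro h
    exact (Submodule.Quotient.mk_eq_zero _).2 (D.mem_ann.2 fun φ hφ => h ⟨φ, hφ⟩)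
  nd' φ h := Subtype.ext (D.nd' φ.1 fun w => h (Submodule.Quotient.mk w))
  inv g q φ := by
    induction q using Submodule.Quotient.induction_on with | _ w => ?_
    exact D.inv (f g) w φ.1

end CfsgLib.MersenneLin
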