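import Cfsg.Agent.MersenneLinear.AT

/-!
# No asymmetric orbit of pairs

An antiflag transitive group has no invariant choice of a pair `{b, b + a}` for each `a` in which
`a` is never in the pair of `b`: the levels of the resulting digraph would be all the orbits of a
stabilizer, of sizes the powers of two, and predecessors would be successors.
-/

set_option autoImplicit false
set_option linter.unusedSectionVars false
set_option linter.style.haveILetI false

namespace CfsgLib.MersenneLin

open Module
open scoped Classical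

universe u v w

variable {G : Type u} [Group G] {W : Type v} {W' : Type w} [AddCommGroup W] [Module F2 W]
  [AddCommGroup W'] [Module F2 W'] [Finite G] [Finite W] [Finite W']

/-- An invariant choice of pairs. -/
structure Pairing (D : Duo G W W') where
  T : W → W → Prop
  sel : W → W
  left_ne : ∀ a b, T a b → a ≠ 0
  map : ∀ g a b, T a b → T (D.r g a) (D.r g b)
  iff : ∀ a, a ≠ 0 → ∀ c, T a c ↔ c = sel a ∨ c = sel a + a
  sel_ne : ∀ a, a ≠ 0 → sel a ≠ 0 ∧ sel a ≠ a
  asymm : ∀ a b, T a b → ¬ T b a

variable {D : Duo G W W'}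

namespace Pairing

variable (Γ : Pairing D)

theorem T_sel {a : W} (ha : a ≠ 0) : Γ.T a (Γ.sel a) := (Γ.iff a ha _).2 (Or.inl rfl)

theorem T_ne {a b : W} (h : Γ.T a b) : b ≠ 0 := by
  have ha := Γ.left_ne a b h
  rcases (Γ.iff a ha b).1 h with rfl | rfl
  · exact (Γ.sel_ne a ha).1
  · exact fun e => (Γ.sel_ne a ha).2 (add_eq_zero_iff'.1 e)

theorem map_iff (g : G) {a b : W} : Γ.T (D.r g a) (D.r g b) ↔ Γ.T a b := by
  refine ⟨fun h => ?_, Γ.map g a b⟩
  have h' := Γ.map g⁻¹ _ _ h
  rwa [D.r_inv_apply, D.r_inv_apply] at h'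

/-- A path of length `j`. -/
def IsPath (j : ℕ) (u : ℕ → W) : Prop := u 0 ≠ 0 ∧ ∀ i < j, Γ.T (u i) (u (i + 1))

theorem isPath_ne {j : ℕ} {u : ℕ → W} (h : Γ.IsPath j u) : ∀ i ≤ j, u i ≠ 0 := by
  intro i hi
  rcases i with _ | i
  · exact h.1
  · exact Γ.T_ne (h.2 i hi)

theorem isPath_map {j : ℕ} {u : ℕ → W} (h : Γ.IsPath j u) (g : G) : Γ.IsPath j fun i => D.r g (u i) :=
  ⟨fun e => h.1 ((D.r g).map_eq_zero_iff.1 e), fun i hi => Γ.map g _ _ (h.2 i hi)⟩

/-- The group is transitive on the paths of length `j`. -/
def PathTrans (j : ℕ) : Prop :=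
  ∀ u u', Γ.IsPath j u → Γ.IsPath j u' → ∃ g, ∀ i ≤ j, D.r g (u i) = u' i

/-- The vertices reachable from `a`. -/
def comp (a : W) : Set W := {b | Relation.ReflTransGen Γ.T a b}

theorem comp_ne {a : W} (ha : a ≠ 0) {b : W} (hb : b ∈ Γ.comp a) : b ≠ 0 := by
  induction (hb : Relation.ReflTransGen Γ.T a b) with
  | refl => exact ha
  | tail _ h _ => exact Γ.T_ne h

theorem comp_map (g : G) {a b : W} (hb : b ∈ Γ.comp a) : D.r g b ∈ Γ.comp (D.r g a) := by
  induction (hb : Relation.ReflTransGen Γ.T a b) with
  | refl => exact Relation.ReflTransGen.refl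
  | tail _ h ih => exact Relation.ReflTransGen.tail ih (Γ.map g _ _ h)

theorem comp_map_eq (g : G) (a : W) : D.r g '' Γ.comp a = Γ.comp (D.r g a) := by
  refine Set.Subset.antisymm ?_ fun b hb => ?_
  · rintro _ ⟨b, hb, rfl⟩; exact Γ.comp_map g hb
  · refine ⟨D.r g⁻¹ b, ?_, D.r_apply_inv g b⟩
    have := Γ.comp_map g⁻¹ hb
    rwa [D.r_inv_apply] at this

variable (hA : D.AT)
include hA

theorem comp_symm {a : W} (ha : a ≠ 0) {b : W} (hb : b ∈ Γ.comp a) : Γ.comp b = Γ.comp a := by
  obtain ⟨g, rfl⟩ := hA.transitive ha (Γ.comp_ne ha hb)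
  refine Set.eq_of_subset_of_ncard_le (fun c hc => Relation.ReflTransGen.trans hb hc) ?_ (Set.toFinite _)
  rw [← Γ.comp_map_eq, Set.ncard_image_of_injective _ (D.r g).injective]

theorem pathTrans_zero : Γ.PathTrans 0 := fun u u' h h' => by
  obtain ⟨g, hg⟩ := hA.transitive h.1 h'.1
  exact ⟨g, fun i hi => by rw [Nat.le_zero.1 hi]; exact hg⟩

theorem comp_fixed {j : ℕ} (hj : ∀ u, Γ.IsPath j u → ∀ g : G, (∀ i ≤ j, D.r g (u i) = u i) →
      ∀ c, Γ.T (u j) c → D.r g c = c) {u : ℕ → W} (hu : Γ.IsPath j u) {g : G}
    (hg : ∀ i ≤ j, D.r g (u i) = u i) : ∀ c ∈ Γ.comp (u 0), D.r g c = c := by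
  have hall : ∀ c ∈ Γ.comp (u j), ∃ u', Γ.IsPath j u' ∧ (∀ i ≤ j, D.r g (u' i) = u' i) ∧ u' j = c := by
    intro c hc
    induction (hc : Relation.ReflTransGen Γ.T (u j) c) with
    | refl => exact ⟨u, hu, hg, rfl⟩
    | tail hcd hde ih =>
      rename_i d e
      obtain ⟨u', hu', hg', rfl⟩ := ih
      have he : D.r g e = e := hj u' hu' g hg' e hde
      refine ⟨fun i => if i < j then u' (i + 1) else e, ⟨?_, fun i hi => ?_⟩, fun i hi => ?_, by simp⟩
      · show (if 0 < j then u' (0 + 1) else e) ≠ 0
        split_ifs with h0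
        · exact Γ.T_ne (hu'.2 0 h0)
        · exact Γ.T_ne hde
      · beta_reduce
        rw [if_pos hi]
        split_ifs with h1
        · exact hu'.2 (i + 1) h1
        · rw [show i + 1 = j by omega]; exact hde
      · beta_reduce
        split_ifs with h1
        · exact hg' (i + 1) h1
        · exact he
  intro c hc
  have huj : u j ∈ Γ.comp (u 0) := by
    have : ∀ i ≤ j, u i ∈ Γ.comp (u 0) := by
      intro i
      induction i with
      | zero => exact fun _ => Relation.ReflTransGen.refl
      | succ i ih => exact fun hi => Relation.ReflTransGen.tail (ih (by omega)) (hu.2 i (by omega))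
    exact this j le_rfl
  rw [← Γ.comp_symm hA hu.1 huj] at hc
  obtain ⟨u', -, hg', rfl⟩ := hall c hc
  exact hg' j le_rfl

include Γ in
theorem false : False := by
  haveI := Fintype.ofFinite W
  obtain ⟨a, ha⟩ : ∃ a : W, a ≠ 0 := by
    haveI : Nontrivial W := Module.nontrivial_of_finrank_pos (R := F2) (by have := hA.two_le; omega)
    exact exists_ne 0
  set M : Submodule F2 W := Submodule.span F2 (Γ.comp a) with hMdef
  -- every nonzero vector of the span is in the component
  let L : Subgroup G :=
    { carrier := {g | D.r g '' Γ.comp a = Γ.comp a}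
      one_mem' := by simp [D.r_one]
      mul_mem' := fun {g h} hg hh => by
        show D.r (g * h) '' Γ.comp a = Γ.comp a
        rw [show (⇑(D.r (g * h))) = fun x => D.r g (D.r h x) from funext (D.r_mul g h),
          ← Set.image_image, hh, hg]
      inv_mem' := fun {g} hg => by
        show D.r g⁻¹ '' Γ.comp a = Γ.comp a
        conv_lhs => rw [← hg]
        rw [Set.image_image]
        simp [D.r_inv_apply] }
  have hLstab : ∀ b ∈ Γ.comp a, ∀ g, D.r g b = b → g ∈ L := fun b hb g hg => by
    show D.r g '' Γ.comp a = Γ.comp a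
    rw [← Γ.comp_symm hA ha hb, Γ.comp_map_eq, hg]
  have hMC : ∀ b ∈ M, b ≠ 0 → b ∈ Γ.comp a := by
    refine D.span_orbit L Submodule.subset_span (fun b hb => Γ.comp_ne ha hb) le_rfl
      ⟨a, Relation.ReflTransGen.refl⟩ (fun g hg b hb => ?_) (fun g hg b hb => ?_) fun b hb φ ψ h1 h2 => ?_
    · rw [← (show D.r g '' Γ.comp a = Γ.comp a from hg)]
      exact Set.mem_image_of_mem _ hb
    · induction hb using Submodule.span_induction with
      | mem x hx =>
        refine Submodule.subset_span ?_
        rw [← (show D.r g '' Γ.comp a = Γ.comp a from hg)]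
        exact Set.mem_image_of_mem _ hx
      | zero => rw [map_zero]; exact zero_mem _
      | add _ _ _ _ h1 h2 => rw [map_add]; exact add_mem h1 h2
      | smul c _ _ h1 => rw [map_smul]; exact Submodule.smul_mem _ c h1
    · obtain ⟨g, hg, hg'⟩ := hA.antiflag b φ b ψ h1 h2
      exact ⟨g, hLstab b hb g hg, hg, hg'⟩
  set d := finrank F2 M with hd
  have haM : a ∈ M := Submodule.subset_span Relation.ReflTransGen.refl
  -- the functionals on the span not vanishing at `a`
  have hfun : Nat.card {f : M →ₗ[F2] F2 // f ⟨a, haM⟩ = 1} = 2 ^ (d - 1) := by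
    haveI : Finite (M →ₗ[F2] F2) := Module.finite_of_finite F2
    have h := Duo.card_β_one (G := Unit) (W := M →ₗ[F2] F2) (W' := M)
      { r := 1, r' := 1, β := LinearMap.id, nd := fun f hf => LinearMap.ext hf,
        nd' := fun x hx => (Module.forall_dual_apply_eq_zero_iff F2 x).1 hx, inv := fun _ _ _ => rfl }
      (φ := ⟨a, haM⟩) (fun e => ha (congrArg Subtype.val e))
    rw [show finrank F2 (M →ₗ[F2] F2) = d from Subspace.dual_finrank_eq] at h
    exact h
  -- transitivity on paths up to the dimension less one
  have htrans : ∀ j, j ≤ d - 1 → Γ.PathTrans j := by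
    intro j
    induction j with
    | zero => exact fun _ => Γ.pathTrans_zero hA
    | succ j ih =>
      intro hjd
      have hT := ih (by omega)
      by_cases hsw : ∀ u, Γ.IsPath j u → ∀ g : G, (∀ i ≤ j, D.r g (u i) = u i) →
          ∀ c, Γ.T (u j) c → D.r g c = c
      · exfalso
        -- the stabilizer of `a` has an orbit of size `2 ^ (d - 1)` but only `2 ^ j` paths
        have hu0 : Γ.IsPath j fun i => Γ.sel^[i] a := by
          have hne : ∀ i, Γ.sel^[i] a ≠ 0 := by
            intro i
            induction i with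
            | zero => simpa using ha
            | succ i ih => rw [Function.iterate_succ_apply']; exact (Γ.sel_ne _ ih).1
          exact ⟨by simpa using ha, fun i _ => by
            show Γ.T (Γ.sel^[i] a) (Γ.sel^[i + 1] a)
            rw [Function.iterate_succ_apply']; exact Γ.T_sel (hne i)⟩
        set u := fun i => Γ.sel^[i] a with hu
        obtain ⟨φ₀, hφ₀⟩ := D.exists_one ha
        have hext : ∀ f : {f : M →ₗ[F2] F2 // f ⟨a, haM⟩ = 1}, ∃ g, D.r g a = a ∧
            ∀ x : M, D.β x (D.r' g φ₀) = f.1 x := by
          intro f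
          obtain ⟨f', hf'⟩ := LinearMap.exists_extend f.1
          obtain ⟨ψ, hψ⟩ := D.swap.exists_eval f'
          have hx : ∀ x : M, D.β x ψ = f.1 x := fun x => by
            rw [show D.β x ψ = D.swap.β ψ x from rfl, hψ, ← hf']; rfl
          obtain ⟨g, hg, hg'⟩ := hA.antiflag a φ₀ a ψ hφ₀ (by rw [hx ⟨a, haM⟩]; exact f.2)
          exact ⟨g, hg, fun x => by rw [hg']; exact hx x⟩
        choose g hga hgf using hext
        let code : {f : M →ₗ[F2] F2 // f ⟨a, haM⟩ = 1} → (Fin j → Bool) := fun f i =>
          decide (D.r (g f) (u (i + 1)) = Γ.sel (D.r (g f) (u i)))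
        have hcode : Function.Injective code := by
          intro f f' hff
          have hp := Γ.isPath_map hu0 (g f)
          have hp' := Γ.isPath_map hu0 (g f')
          have hsame : ∀ i ≤ j, D.r (g f) (u i) = D.r (g f') (u i) := by
            intro i
            induction i with
            | zero => intro _; show D.r (g f) a = D.r (g f') a; rw [hga, hga]
            | succ i ih2 =>
              intro hi
              have e := ih2 (by omega)
              have hb := congrFun hff ⟨i, by omega⟩
              simp only [code, decide_eq_decide] at hb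
              have hne := Γ.isPath_ne hp i (by omega)
              rcases (Γ.iff _ hne _).1 (hp.2 i (by omega)) with h | h <;> beta_reduce at h
              · have h' := hb.1 h
                rw [h, h', e]
              · rcases (Γ.iff _ (Γ.isPath_ne hp' i (by omega)) _).1 (hp'.2 i (by omega)) with h' | h' <;>
                  beta_reduce at h'
                · have h'' := hb.2 h'
                  rw [h'', h', e]
                · rw [h, h', e]
          have hfix : ∀ c ∈ M, D.r ((g f)⁻¹ * g f') c = c := by
            intro c hc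
            by_cases hc0 : c = 0
            · rw [hc0, map_zero]
            exact Γ.comp_fixed hA hsw hu0 (fun i hi => by rw [D.r_mul, ← hsame i hi, D.r_inv_apply]) c
              (hMC c hc hc0)
          refine Subtype.ext (LinearMap.ext fun x => ?_)
          rw [← hgf f x, ← hgf f' x, ← D.β_inv_left, ← D.β_inv_left]
          congr 2
          have hmem : D.r (g f')⁻¹ (x : W) ∈ M := by
            refine (Submodule.span_le.2 fun b hb => ?_ : M ≤ M.comap (D.r (g f')⁻¹ : W →ₗ[F2] W)) x.2
            refine Submodule.subset_span ?_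
            show D.r (g f')⁻¹ b ∈ Γ.comp a
            have := Γ.comp_map (g f')⁻¹ hb
            rwa [show D.r (g f')⁻¹ a = a from (D.stab a).inv_mem (hga f')] at this
          have h := hfix _ hmem
          rwa [D.r_mul, D.r_apply_inv] at h
        have hle := Nat.card_le_card_of_injective code hcode
        rw [hfun, Nat.card_eq_fintype_card, Fintype.card_fun, Fintype.card_bool, Fintype.card_fin] at hle
        have := (Nat.pow_le_pow_iff_right one_lt_two).1 hle
        omega
      · push Not at hsw
        obtain ⟨w, hw, k, hk, c, hc, hkc⟩ := hsw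
        intro v v' hv hv'
        obtain ⟨g, hg⟩ := hT v v' ⟨hv.1, fun i hi => hv.2 i (by omega)⟩ ⟨hv'.1, fun i hi => hv'.2 i (by omega)⟩
        obtain ⟨g', hg'⟩ := hT v' w ⟨hv'.1, fun i hi => hv'.2 i (by omega)⟩ hw
        have h1 : Γ.T (v' j) (D.r g (v (j + 1))) := by
          rw [← hg j le_rfl]; exact Γ.map g _ _ (hv.2 j (by omega))
        by_cases he : D.r g (v (j + 1)) = v' (j + 1)
        · exact ⟨g, fun i hi => by
            rcases Nat.lt_or_ge j i with h | h
            · rw [show i = j + 1 by omega]; exact he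
            · exact hg i h⟩
        refine ⟨g'⁻¹ * k * g' * g, fun i hi => ?_⟩
        rcases Nat.lt_or_ge j i with h | h
        · rw [show i = j + 1 by omega, D.r_mul, D.r_mul, D.r_mul]
          have hwj := Γ.isPath_ne hw j le_rfl
          have hmap : ∀ y, Γ.T (v' j) y → Γ.T (w j) (D.r g' y) := fun y hy => by
            rw [← hg' j le_rfl]; exact Γ.map g' _ _ hy
          have hkT : ∀ y, Γ.T (w j) y → Γ.T (w j) (D.r k y) := fun y hy => by
            have := Γ.map k _ _ hy
            rwa [hk j le_rfl] at this
          -- the element `k` exchanges the two successors of the end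
          have hex : ∀ y z, Γ.T (w j) y → Γ.T (w j) z → y ≠ z → D.r k y = z := by
            intro y z hy hz hyz
            have hyk : D.r k y ≠ y := by
              intro e
              apply hkc
              by_cases hcy : c = y
              · rw [hcy]; exact e
              · rcases (Γ.iff _ hwj c).1 hc with h | h <;> rcases (Γ.iff _ hwj y).1 hy with h' | h' <;>
                  rcases (Γ.iff _ hwj (D.r k c)).1 (hkT c hc) with h'' | h''
                all_goals first
                  | exact h''.trans h.symm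
                  | exact absurd (h.trans h'.symm) hcy
                  | exact absurd ((D.r k).injective ((h''.trans h'.symm).trans e.symm)) hcy
            rcases (Γ.iff _ hwj y).1 hy with h | h <;> rcases (Γ.iff _ hwj z).1 hz with h' | h' <;>
              rcases (Γ.iff _ hwj _).1 (hkT y hy) with h'' | h''
            all_goals first
              | exact h''.trans h'.symm
              | exact absurd (h.trans h'.symm) hyz
              | exact absurd (h''.trans h.symm) hyk
          have := hex _ _ (hmap _ h1) (hmap _ (hv'.2 j (by omega))) fun e => he ((D.r g').injective e)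
          rw [this, D.r_inv_apply]
        · rw [D.r_mul, D.r_mul, D.r_mul, hg i h, hg' i h, hk i h, ← hg' i h, D.r_inv_apply]
  -- the levels
  let lev : ℕ → W → Multiset W := fun j => Nat.rec (fun x => {x})
    (fun _ f x => (f x).bind fun y => {Γ.sel y, Γ.sel y + y}) j
  have lev_succ : ∀ j x, lev (j + 1) x = (lev j x).bind fun y => {Γ.sel y, Γ.sel y + y} := fun _ _ => rfl
  have lev_sum : ∀ j x, (lev j x).sum = x := by
    intro j x
    induction j with
    | zero => simp [lev]
    | succ j ih =>
      rw [lev_succ, Multiset.sum_bind]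
      conv_rhs => rw [← ih, ← Multiset.map_id (lev j x)]
      refine congrArg _ (Multiset.map_congr rfl fun y _ => ?_)
      simp only [Multiset.insert_eq_cons, Multiset.sum_cons, Multiset.sum_singleton, id]
      rw [← add_assoc, add_self', zero_add]
  have lev_card : ∀ j x, (lev j x).card = 2 ^ j := by
    intro j x
    induction j with
    | zero => simp [lev]
    | succ j ih =>
      rw [lev_succ, Multiset.card_bind, show ((Multiset.card ∘ fun y => ({Γ.sel y, Γ.sel y + y} : Multiset W))) =
        Function.const W 2 from funext fun y => by simp, Multiset.map_const, Multiset.sum_replicate, ih,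
        smul_eq_mul, pow_succ]
  have lev_path : ∀ j x w, x ≠ 0 → (w ∈ lev j x ↔ ∃ u, Γ.IsPath j u ∧ u 0 = x ∧ u j = w) := by
    intro j
    induction j with
    | zero =>
      intro x w hx
      show w ∈ ({x} : Multiset W) ↔ _
      rw [Multiset.mem_singleton]
      exact ⟨fun e => ⟨fun _ => x, ⟨hx, fun i hi => absurd hi (Nat.not_lt_zero i)⟩, rfl, e.symm⟩,
        fun ⟨u, _, h0, h1⟩ => h1.symm.trans h0⟩
    | succ j ih =>
      intro x w hx
      rw [lev_succ, Multiset.mem_bind]
      constructor
      · rintro ⟨y, hy, hw⟩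
        obtain ⟨u, hu, hu0, rfl⟩ := (ih x y hx).1 hy
        have hT : Γ.T (u j) w := (Γ.iff _ (Γ.isPath_ne hu j le_rfl) w).2 (by simpa using hw)
        refine ⟨fun i => if i ≤ j then u i else w, ⟨by simpa using hu.1, fun i hi => ?_⟩, by simpa using hu0,
          by simp⟩
        beta_reduce
        rw [if_pos (by omega)]
        split_ifs with h
        · exact hu.2 i (by omega)
        · rw [show i = j by omega]; exact hT
      · rintro ⟨u, hu, hu0, rfl⟩
        refine ⟨u j, (ih x _ hx).2 ⟨u, ⟨hu.1, fun i hi => hu.2 i (by omega)⟩, hu0, rfl⟩, ?_⟩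
        simpa using (Γ.iff _ (Γ.isPath_ne hu j (by omega)) _).1 (hu.2 j (by omega))
  have lev_map : ∀ g j x, x ≠ 0 → (lev j x).map (D.r g) = lev j (D.r g x) := by
    intro g j
    induction j with
    | zero => intro x _; simp [lev]
    | succ j ih =>
      intro x hx
      rw [lev_succ, lev_succ, ← ih x hx, Multiset.map_bind, Multiset.bind_map]
      refine Multiset.bind_congr fun y hy => ?_
      obtain ⟨u, hu, -, rfl⟩ := (lev_path j x y hx).1 hy
      have hy0 : u j ≠ 0 := Γ.isPath_ne hu j le_rfl
      have hgy : D.r g (u j) ≠ 0 := fun e => hy0 ((D.r g).map_eq_zero_iff.1 e)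
      rcases (Γ.iff _ hgy _).1 (Γ.map g _ _ (Γ.T_sel hy0)) with h | h
      · simp only [Multiset.insert_eq_cons, Multiset.map_cons, Multiset.map_singleton, map_add, h]
      · simp only [Multiset.insert_eq_cons, Multiset.map_cons, Multiset.map_singleton, map_add, h,
          add_assoc, add_self', add_zero]
        exact Multiset.cons_swap _ _ _
  -- the levels up to the dimension less one are orbits of sizes the powers of two
  have hlevel : ∀ j ≤ d - 1, ∀ w ∈ lev j a, ∀ w', (w' ∈ lev j a ↔ ∃ g, D.r g a = a ∧ D.r g w = w') := by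
    intro j hj w hw w'
    constructor
    · intro hw'
      obtain ⟨u, hu, hu0, rfl⟩ := (lev_path j a w ha).1 hw
      obtain ⟨u', hu', hu0', rfl⟩ := (lev_path j a w' ha).1 hw'
      obtain ⟨g, hg⟩ := htrans j hj u u' hu hu'
      exact ⟨g, by have := hg 0 (Nat.zero_le j); rwa [hu0, hu0'] at this, hg j le_rfl⟩
    · rintro ⟨g, hg, rfl⟩
      have := Multiset.mem_map_of_mem (D.r g) hw
      rwa [lev_map g j a ha, hg] at this
  have hnodup : ∀ j ≤ d - 1, (lev j a).toFinset.card = 2 ^ j := by
    intro j hj
    obtain ⟨w, hw⟩ : ∃ w, w ∈ lev j a := by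
      have := lev_card j a
      exact Multiset.card_pos_iff_exists_mem.1 (by rw [this]; exact Nat.two_pow_pos j)
    have hcount : ∀ w' ∈ (lev j a).toFinset, (lev j a).count w' = (lev j a).count w := by
      intro w' hw'
      obtain ⟨g, hg, rfl⟩ := (hlevel j hj w hw w').1 (Multiset.mem_toFinset.1 hw')
      conv_lhs => arg 2; rw [← hg, ← lev_map g j a ha]
      exact Multiset.count_map_eq_count' _ _ (D.r g).injective w
    have hc := Multiset.toFinset_sum_count_eq (lev j a)
    rw [Finset.sum_const_nat hcount, lev_card] at hc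
    have hs := lev_sum j a
    rw [Finset.sum_multiset_count, Finset.sum_congr rfl fun x hx => by rw [hcount x hx], ← Finset.smul_sum] at hs
    have hodd : ¬ 2 ∣ (lev j a).count w := by
      rintro ⟨k, hk⟩
      rw [hk, two_mul, add_smul, add_self'] at hs
      exact ha hs.symm
    have hone : (lev j a).count w = 1 := by
      obtain ⟨i, -, hi⟩ := (Nat.dvd_prime_pow Nat.prime_two).1
        (show (lev j a).count w ∣ 2 ^ j from hc ▸ dvd_mul_left _ _)
      rcases i with _ | i
      · rw [hi, pow_zero]
      · exact absurd (hi ▸ dvd_pow_self 2 (Nat.succ_ne_zero i)) hodd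
    rw [hone, mul_one] at hc
    exact hc
  have hdisj : ∀ i ∈ Finset.range d, ∀ j ∈ Finset.range d, i ≠ j →
      Disjoint (lev i a).toFinset (lev j a).toFinset := by
    intro i hi j hj hij
    rw [Finset.mem_range] at hi hj
    refine Finset.disjoint_left.2 fun w hwi hwj => hij ?_
    rw [Multiset.mem_toFinset] at hwi hwj
    have : (lev i a).toFinset = (lev j a).toFinset := by
      ext w'
      rw [Multiset.mem_toFinset, Multiset.mem_toFinset, hlevel i (by omega) w hwi, hlevel j (by omega) w hwj]
    exact Nat.pow_right_injective le_rfl ((hnodup i (by omega)).symm.trans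
      ((congrArg Finset.card this).trans (hnodup j (by omega))))
  set S := (Finset.range d).biUnion fun j => (lev j a).toFinset with hSdef
  have hS : S = (Finset.univ.filter fun x : W => x ∈ M).erase 0 := by
    refine Finset.eq_of_subset_of_card_le (fun x hx => ?_) ?_
    · obtain ⟨j, -, hx⟩ := Finset.mem_biUnion.1 hx
      obtain ⟨u, hu, hu0, rfl⟩ := (lev_path j a x ha).1 (Multiset.mem_toFinset.1 hx)
      refine Finset.mem_erase.2 ⟨Γ.isPath_ne hu j le_rfl, Finset.mem_filter.2 ⟨Finset.mem_univ _, ?_⟩⟩
      have : ∀ i ≤ j, u i ∈ Γ.comp a := by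
        intro i
        induction i with
        | zero => intro _; rw [hu0]; exact Relation.ReflTransGen.refl
        | succ i ih => exact fun hi => Relation.ReflTransGen.tail (ih (by omega)) (hu.2 i (by omega))
      exact Submodule.subset_span (this j le_rfl)
    · rw [hSdef, Finset.card_biUnion hdisj, Finset.sum_congr rfl fun j hj =>
        hnodup j (by rw [Finset.mem_range] at hj; omega), Nat.geomSum_eq le_rfl d, Nat.div_one,
        Finset.card_erase_of_mem (by simp), ← Fintype.card_subtype, ← Nat.card_eq_fintype_card,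
        Module.natCard_eq_pow_finrank (K := F2) (V := ↥M), Nat.card_zmod]
  -- a predecessor
  obtain ⟨c, hca, hcM⟩ : ∃ c, Γ.T c a ∧ c ∈ Γ.comp a := by
    have hb : Γ.sel a ∈ Γ.comp a := Relation.ReflTransGen.single (Γ.T_sel ha)
    have hab : a ∈ Γ.comp (Γ.sel a) := by rw [Γ.comp_symm hA ha hb]; exact Relation.ReflTransGen.refl
    rcases Relation.ReflTransGen.cases_tail hab with e | ⟨c, hc, hca⟩
    · exact absurd e.symm (Γ.sel_ne a ha).2
    · exact ⟨c, hca, by rw [← Γ.comp_symm hA ha hb]; exact hc⟩
  have hcS : c ∈ S := by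
    rw [hS]
    exact Finset.mem_erase.2 ⟨Γ.left_ne c a hca, Finset.mem_filter.2 ⟨Finset.mem_univ _, Submodule.subset_span hcM⟩⟩
  obtain ⟨i, hi, hci⟩ := Finset.mem_biUnion.1 hcS
  rw [Finset.mem_range] at hi
  rw [Multiset.mem_toFinset] at hci
  rcases Nat.lt_or_ge i 2 with hi2 | hi2
  · rcases i with _ | i
    · have e : c = a := by simpa [lev] using hci
      subst e
      exact Γ.asymm c c hca hca
    · rw [show i = 0 by omega, lev_succ] at hci
      have : c = Γ.sel a ∨ c = Γ.sel a + a := by simpa [lev] using hci
      exact Γ.asymm a c ((Γ.iff a ha c).2 this) hca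
  -- otherwise there are at least four predecessors
  set N : Finset W := Finset.univ.filter (· ≠ 0) with hN
  have hcnt := Finset.sum_card_bipartiteAbove_eq_sum_card_bipartiteBelow (s := N) (t := N) (r := Γ.T)
  have h1 : ∀ x ∈ N, (N.bipartiteAbove Γ.T x).card ≤ 2 := fun x hx => by
    refine (Finset.card_le_card (t := {Γ.sel x, Γ.sel x + x}) fun y hy => ?_).trans Finset.card_le_two
    obtain ⟨-, hy⟩ := Finset.mem_filter.1 hy
    simpa using (Γ.iff x (Finset.mem_filter.1 hx).2 y).1 hy
  have h4 : ∀ x ∈ N, 4 ≤ (N.bipartiteBelow Γ.T x).card := fun x hx => by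
    obtain ⟨g, rfl⟩ := hA.transitive ha (Finset.mem_filter.1 hx).2
    calc 4 ≤ (lev i a).toFinset.card := by
          rw [hnodup i (by omega)]
          exact Nat.pow_le_pow_right (n := 2) two_pos hi2
      _ = ((lev i a).toFinset.image (D.r g)).card := (Finset.card_image_of_injective _ (D.r g).injective).symm
      _ ≤ _ := Finset.card_le_card fun y hy => by
          obtain ⟨z, hz, rfl⟩ := Finset.mem_image.1 hy
          obtain ⟨k, hk, rfl⟩ := (hlevel i (by omega) c hci z).1 (Multiset.mem_toFinset.1 hz)
          have hT := Γ.map k c a hca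
          rw [hk] at hT
          have hT' := Γ.map g _ _ hT
          exact Finset.mem_filter.2 ⟨Finset.mem_filter.2 ⟨Finset.mem_univ _, Γ.left_ne _ _ hT'⟩, hT'⟩
  have hsum1 : ∑ x ∈ N, (N.bipartiteAbove Γ.T x).card ≤ N.card * 2 := by
    simpa using Finset.sum_le_card_nsmul N _ 2 h1
  have hsum4 : N.card * 4 ≤ ∑ x ∈ N, (N.bipartiteBelow Γ.T x).card := by
    simpa using Finset.card_nsmul_le_sum N _ 4 h4
  have hNpos : 0 < N.card := Finset.card_pos.2 ⟨a, Finset.mem_filter.2 ⟨Finset.mem_univ _, ha⟩⟩
  omega

end Pairing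

end CfsgLib.MersenneLin
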