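import Cfsg.Agent.MersenneLinear.Spread

/-!
# No spread: the slopes of a sum of two blocks
-/

set_option autoImplicit false
set_option linter.unusedSectionVars false
set_option linter.style.haveILetI false

namespace CfsgLib.MersenneLin

open Module
open scoped Classical

universe u v w

variable {G : Type u} [Group G] {W : Type v} {W' : Type w} [AddCommGroup W] [Module F2 W]
  [AddCommGroup W'] [Module F2 W'] [Finite G] [Finite W] [Finite W'] [Fintype W] [Fintype W']

/-- Three different nonzero elements of a module with four elements have sum zero. -/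
theorem add_eq_of_four {U : Type*} [AddCommGroup U] [Module F2 U] [Finite U] (hU : Nat.card U = 4) {p q r : U}
    (hp : p ≠ 0) (hq : q ≠ 0) (hr : r ≠ 0) (hpq : p ≠ q) (hpr : p ≠ r) (hqr : q ≠ r) : p + q = r := by
  haveI := Fintype.ofFinite U
  by_contra hne
  have h5 : ({0, p, q, r, p + q} : Finset U).card = 5 := by
    have hs : p + q ≠ 0 := fun e => hpq (add_eq_zero_iff'.1 e)
    have hsp : p + q ≠ p := fun e => hq (add_eq_left.1 e)
    have hsq : p + q ≠ q := fun e => hp (add_eq_right.1 e)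
    simp [Finset.card_insert_of_notMem, hp.symm, hq.symm, hr.symm, hpq, hpr, hqr, hs.symm, hsp.symm, hsq.symm,
      Ne.symm hne]
  have h := Finset.card_le_univ ({0, p, q, r, p + q} : Finset U)
  rw [h5, ← Nat.card_eq_fintype_card, hU] at h
  omega

variable {D : Duo G W W'}

namespace Spread

variable (Sp : Spread D) (hA : D.AT)

theorem sigma_congr {a b : W} (h : Sp.B a = Sp.B b) : Sp.sigma a = Sp.sigma b := by
  rw [sigma, sigma]
  congr 1
  ext φ
  exact ⟨fun h' => Sp.Bl_congr h' h, fun h' => Sp.Bl_congr h' h.symm⟩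

include hA

theorem block_le_P {a z : W} (ha : a ≠ 0) (hz : z ≠ 0) (h : z ∈ Sp.B a) : Sp.B a ≤ D.P z := by
  rw [← Sp.eq_of_mem a z ha hz h]
  exact (Sp.B_le_Dm hA).trans (Sp.Dm_le_P z)

theorem finrank_sigma {a : W} (ha : a ≠ 0) : finrank F2 (Sp.sigma a) = Sp.f := by
  have h1 := (Sp.Dm_spec hA ha).1
  have h2 : finrank F2 (Sp.sigma a) + finrank F2 (Sp.Dm a) = finrank F2 W := D.finrank_ann _
  omega

/-- Data of a sum of two blocks whose second is off the zero space of the first. -/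
structure Pair where
  e : W
  x : W
  he : e ≠ 0
  hx : x ∉ Sp.Dm e

omit hA in
theorem exists_pair (hA : D.AT) : Nonempty (Pair Sp) := by
  obtain ⟨e, he⟩ : ∃ e : W, e ≠ 0 := by
    haveI : Nontrivial W := Module.nontrivial_of_finrank_pos (R := F2) (by have := hA.two_le; omega)
    exact exists_ne 0
  have h := (Sp.Dm_spec hA he).1
  have hf := Sp.f_pos he
  obtain ⟨x, hx⟩ : ∃ x, x ∉ Sp.Dm e := by
    by_contra hc
    push Not at hc
    rw [show Sp.Dm e = ⊤ from eq_top_iff.2 fun x _ => hc x, finrank_top] at h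
    omega
  exact ⟨⟨e, x, he, hx⟩⟩

variable {Sp} (E : Pair Sp)

omit hA in
theorem x_ne : E.x ≠ 0 := fun h => E.hx (h ▸ zero_mem _)

theorem disjoint_X {z : W} (hz : z ∈ Sp.Dm E.e) (hzX : z ∈ Sp.B E.x) : z = 0 := by
  by_contra hz0
  have hle := (Sp.Dm_spec hA E.he).2.1 z hz hz0
  rw [Sp.eq_of_mem E.x z (x_ne E) hz0 hzX] at hle
  exact E.hx (hle (Sp.mem E.x))

theorem isCompl_X : IsCompl (Sp.Dm E.e) (Sp.B E.x) := by
  have hd : Disjoint (Sp.Dm E.e) (Sp.B E.x) := Submodule.disjoint_def.2 fun z h1 h2 => disjoint_X hA E h1 h2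
  refine ⟨hd, codisjoint_iff.2 (Submodule.eq_top_of_finrank_eq ?_)⟩
  have h := Submodule.finrank_sup_add_finrank_inf_eq (Sp.Dm E.e) (Sp.B E.x)
  rw [disjoint_iff.1 hd, finrank_bot, Sp.dim E.x (x_ne E), add_zero] at h
  rw [h, (Sp.Dm_spec hA E.he).1]

theorem disjoint_BX {z : W} (hz : z ∈ Sp.B E.e) (hzX : z ∈ Sp.B E.x) : z = 0 :=
  disjoint_X hA E (Sp.B_le_Dm hA hz) hzX

theorem add_ne {a z : W} (ha : a ∈ Sp.B E.e) (hz : z ∈ Sp.B E.x) (h : a ≠ 0 ∨ z ≠ 0) : a + z ≠ 0 := fun e => by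
  have e' := add_eq_zero_iff'.1 e
  have h0 := disjoint_BX hA E ha (e' ▸ hz)
  rcases h with h | h
  · exact h h0
  · exact h (e' ▸ h0)

/-- The block of `e + z` as a slope. -/
theorem exists_lam {z a : W} (hz : z ∈ Sp.B E.x) (ha : a ∈ Sp.B E.e) :
    ∃ w ∈ Sp.B E.x, a + w ∈ Sp.B (E.e + z) := by
  have hne : E.e + z ≠ 0 := add_ne hA E (Sp.mem _) hz (Or.inl E.he)
  have hd : Sp.B (E.e + z) ⊓ Sp.B E.x = ⊥ := by
    refine (Submodule.eq_bot_iff _).2 fun y hy => by_contra fun hy0 => E.he (disjoint_BX hA E (Sp.mem _) ?_)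
    obtain ⟨h1, h2⟩ := hy
    have hmem : E.e + z ∈ Sp.B E.x := by
      rw [← Sp.eq_of_mem E.x y (x_ne E) hy0 h2, Sp.eq_of_mem (E.e + z) y hne hy0 h1]; exact Sp.mem _
    simpa [add_assoc, add_self'] using add_mem hmem hz
  have hdB : Sp.B E.e ⊓ Sp.B E.x = ⊥ :=
    (Submodule.eq_bot_iff _).2 fun y hy => disjoint_BX hA E hy.1 hy.2
  have hle : Sp.B (E.e + z) ⊔ Sp.B E.x ≤ Sp.B E.e ⊔ Sp.B E.x :=
    sup_le (Sp.B_le_sup hA E.he (x_ne E) hne (Submodule.add_mem_sup (Sp.mem _) hz)) le_sup_right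
  have heq : Sp.B (E.e + z) ⊔ Sp.B E.x = Sp.B E.e ⊔ Sp.B E.x := by
    refine Submodule.eq_of_le_of_finrank_eq hle ?_
    have h1 := Submodule.finrank_sup_add_finrank_inf_eq (Sp.B (E.e + z)) (Sp.B E.x)
    have h2 := Submodule.finrank_sup_add_finrank_inf_eq (Sp.B E.e) (Sp.B E.x)
    rw [hd, finrank_bot, Sp.dim _ hne] at h1
    rw [hdB, finrank_bot, Sp.dim _ E.he] at h2
    omega
  obtain ⟨y, hy, w, hw, hyw⟩ := Submodule.mem_sup.1 (heq.symm ▸ Submodule.mem_sup_left ha :
    a ∈ Sp.B (E.e + z) ⊔ Sp.B E.x)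
  exact ⟨w, hw, by rw [← hyw, add_assoc, add_self', add_zero]; exact hy⟩

/-- The slope. -/
noncomputable def lam (E : Pair Sp) (z a : W) : W :=
  if h : ∃ w, w ∈ Sp.B E.x ∧ a + w ∈ Sp.B (E.e + z) then h.choose else 0

theorem lam_spec {z a : W} (hz : z ∈ Sp.B E.x) (ha : a ∈ Sp.B E.e) :
    lam E z a ∈ Sp.B E.x ∧ a + lam E z a ∈ Sp.B (E.e + z) := by
  obtain ⟨w, hw, hw'⟩ := exists_lam hA E hz ha
  have h : ∃ w, w ∈ Sp.B E.x ∧ a + w ∈ Sp.B (E.e + z) := ⟨w, hw, hw'⟩
  rw [lam, dif_pos h]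
  exact h.choose_spec

theorem lam_unique {z a w : W} (hz : z ∈ Sp.B E.x) (ha : a ∈ Sp.B E.e) (hw : w ∈ Sp.B E.x)
    (h : a + w ∈ Sp.B (E.e + z)) : lam E z a = w := by
  obtain ⟨h1, h2⟩ := lam_spec hA E hz ha
  by_contra hne
  have hd : lam E z a + w ≠ 0 := fun e => hne (add_eq_zero_iff'.1 e)
  have hmem : lam E z a + w ∈ Sp.B (E.e + z) := by
    have := add_mem h2 h
    rwa [add_add_add_comm, add_self', zero_add] at this
  have hne0 : E.e + z ≠ 0 := add_ne hA E (Sp.mem _) hz (Or.inl E.he)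
  have hX : lam E z a + w ∈ Sp.B E.x := add_mem h1 hw
  have hmem' : E.e + z ∈ Sp.B E.x := by
    rw [← Sp.eq_of_mem E.x _ (x_ne E) hd hX, Sp.eq_of_mem _ _ hne0 hd hmem]; exact Sp.mem _
  exact E.he (disjoint_BX hA E (Sp.mem _) (by simpa [add_assoc, add_self'] using add_mem hmem' hz))

theorem lam_e {z : W} (hz : z ∈ Sp.B E.x) : lam E z E.e = z :=
  lam_unique hA E hz (Sp.mem _) hz (Sp.mem _)

theorem lam_zero_left {a : W} (ha : a ∈ Sp.B E.e) : lam E 0 a = 0 :=
  lam_unique hA E (zero_mem _) ha (zero_mem _) (by rw [add_zero, add_zero]; exact ha)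

theorem lam_zero_right {z : W} (hz : z ∈ Sp.B E.x) : lam E z 0 = 0 :=
  lam_unique hA E hz (zero_mem _) (zero_mem _) (by rw [add_zero]; exact zero_mem _)

theorem lam_add {z a b : W} (hz : z ∈ Sp.B E.x) (ha : a ∈ Sp.B E.e) (hb : b ∈ Sp.B E.e) :
    lam E z (a + b) = lam E z a + lam E z b := by
  obtain ⟨h1, h2⟩ := lam_spec hA E hz ha
  obtain ⟨h3, h4⟩ := lam_spec hA E hz hb
  exact lam_unique hA E hz (add_mem ha hb) (add_mem h1 h3) (by rw [add_add_add_comm]; exact add_mem h2 h4)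

theorem lam_inj_left {z w b : W} (hz : z ∈ Sp.B E.x) (hw : w ∈ Sp.B E.x) (hb : b ∈ Sp.B E.e) (hb0 : b ≠ 0)
    (h : lam E z b = lam E w b) : z = w := by
  obtain ⟨h1, h2⟩ := lam_spec hA E hz hb
  obtain ⟨-, h4⟩ := lam_spec hA E hw hb
  rw [← h] at h4
  have hne : ∀ t ∈ Sp.B E.x, E.e + t ≠ 0 := fun t ht => add_ne hA E (Sp.mem _) ht (Or.inl E.he)
  have hbl : b + lam E z b ≠ 0 := add_ne hA E hb h1 (Or.inl hb0)
  have e : Sp.B (E.e + z) = Sp.B (E.e + w) :=
    (Sp.eq_of_mem _ _ (hne z hz) hbl h2).symm.trans (Sp.eq_of_mem _ _ (hne w hw) hbl h4)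
  have := lam_spec hA E hw (Sp.mem E.e)
  rw [← lam_e hA E hz]
  refine (lam_unique hA E hz (Sp.mem _) hw ?_)
  rw [e]; exact Sp.mem _

theorem lam_surj {b v : W} (hb : b ∈ Sp.B E.e) (hb0 : b ≠ 0) (hv : v ∈ Sp.B E.x) :
    ∃ z ∈ Sp.B E.x, lam E z b = v := by
  let f : Sp.B E.x → Sp.B E.x := fun z => ⟨lam E z b, (lam_spec hA E z.2 hb).1⟩
  have hf : Function.Injective f := fun z w h => Subtype.ext (lam_inj_left hA E z.2 w.2 hb hb0 (congrArg Subtype.val h))
  obtain ⟨z, hz⟩ := (Finite.injective_iff_surjective.1 hf) ⟨v, hv⟩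
  exact ⟨z, z.2, congrArg Subtype.val hz⟩

/-- Differences of slopes give symmetric relations. -/
theorem sym_imp {z₁ z₂ a a' : W} (hz₁ : z₁ ∈ Sp.B E.x) (hz₂ : z₂ ∈ Sp.B E.x)
    (ha : a ∈ Sp.B E.e) (ha0 : a ≠ 0) (ha' : a' ∈ Sp.B E.e) (ha0' : a' ≠ 0)
    (h : lam E z₁ a + lam E z₂ a ∈ D.P a') : lam E z₁ a' + lam E z₂ a' ∈ D.P a := by
  by_cases hz : z₁ = z₂
  · rw [hz, add_self']; exact zero_mem _
  obtain ⟨s1, t1⟩ := lam_spec hA E hz₁ ha
  obtain ⟨s2, t2⟩ := lam_spec hA E hz₂ ha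
  obtain ⟨s1', t1'⟩ := lam_spec hA E hz₁ ha'
  obtain ⟨s2', t2'⟩ := lam_spec hA E hz₂ ha'
  set w := lam E z₁ a + lam E z₂ a
  set w' := lam E z₁ a' + lam E z₂ a'
  have hwX : w ∈ Sp.B E.x := add_mem s1 s2
  have hwX' : w' ∈ Sp.B E.x := add_mem s1' s2'
  have hw0 : w ≠ 0 := fun e => hz (lam_inj_left hA E hz₁ hz₂ ha ha0 (add_eq_zero_iff'.1 e))
  have hw0' : w' ≠ 0 := fun e => hz (lam_inj_left hA E hz₁ hz₂ ha' ha0' (add_eq_zero_iff'.1 e))
  set y' := a' + lam E z₁ a'
  set y := a + lam E z₂ a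
  have hy0' : y' ≠ 0 := add_ne hA E ha' s1' (Or.inl ha0')
  have hy0 : y ≠ 0 := add_ne hA E ha s2 (Or.inl ha0)
  have hne : ∀ t ∈ Sp.B E.x, E.e + t ≠ 0 := fun t ht => add_ne hA E (Sp.mem _) ht (Or.inl E.he)
  have h1 : a' ∈ D.P w := (hA.mem_P_comm ha0' hw0).1 h
  have h2 : y' ∈ D.P w := add_mem h1 (Sp.block_le_P hA (x_ne E) hw0 hwX s1')
  have h3 : w ∈ D.P y' := (hA.mem_P_comm hw0 hy0').1 h2
  have h4 : y ∈ D.P y' := by
    have h' := add_mem h3 (Sp.block_le_P hA (hne _ hz₁) hy0' t1' t1)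
    have e : w + (a + lam E z₁ a) = y := by
      show lam E z₁ a + lam E z₂ a + (a + lam E z₁ a) = a + lam E z₂ a
      rw [add_comm a (lam E z₁ a), add_add_add_comm, add_self', zero_add, add_comm]
    rwa [e] at h'
  have h5 : y' ∈ D.P y := (hA.mem_P_comm hy0' hy0).1 h4
  have h6 : w' ∈ D.P y := by
    have h' := add_mem h5 (Sp.block_le_P hA (hne _ hz₂) hy0 t2 t2')
    have e : y' + (a' + lam E z₂ a') = w' := by
      show a' + lam E z₁ a' + (a' + lam E z₂ a') = lam E z₁ a' + lam E z₂ a'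
      rw [add_add_add_comm, add_self', zero_add]
    rwa [e] at h'
  have h7 : y ∈ D.P w' := (hA.mem_P_comm hy0 hw0').1 h6
  have h8 : a ∈ D.P w' := by
    have h' := add_mem h7 (Sp.block_le_P hA (x_ne E) hw0' hwX' s2)
    have e : y + lam E z₂ a = a := by
      show a + lam E z₂ a + lam E z₂ a = a
      rw [add_assoc, add_self', add_zero]
    rwa [e] at h'
  exact (hA.mem_P_comm hw0' ha0).1 h8

theorem sym_e {z w b : W} (hz : z ∈ Sp.B E.x) (hw : w ∈ Sp.B E.x) (hb : b ∈ Sp.B E.e) (hb0 : b ≠ 0) :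
    lam E z b + lam E w b ∈ D.P E.e ↔ z + w ∈ D.P b := by
  constructor
  · intro h
    have := sym_imp hA E hz hw hb hb0 (Sp.mem _) E.he h
    rwa [lam_e hA E hz, lam_e hA E hw] at this
  · intro h
    rw [← lam_e hA E hz, ← lam_e hA E hw] at h
    exact sym_imp hA E hz hw (Sp.mem _) E.he hb hb0 h

omit hA in
theorem mem_sigma_of_mem_F {b : W} {φ : W'} (hb : b ∈ Sp.B E.e) (hb0 : b ≠ 0) (h : φ ∈ D.F b) :
    φ ∈ Sp.sigma E.e := by
  rw [← Sp.sigma_congr (Sp.eq_of_mem _ b E.he hb0 hb)]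
  exact Sp.F_le_sigma b h

theorem mem_F_of_sigma {b : W} {φ : W'} (hb : b ∈ Sp.B E.e) (hb0 : b ≠ 0) (hφ : φ ∈ Sp.sigma E.e)
    (h : ∀ z ∈ Sp.B E.x, z ∈ D.P b → D.β z φ = 0) : φ ∈ D.F b := by
  rw [← D.ann_ann (D.F b), D.swap.mem_ann]
  intro v hv
  obtain ⟨d, hd, z, hz, rfl⟩ := Submodule.mem_sup.1
    ((codisjoint_iff.1 (isCompl_X hA E).codisjoint).symm ▸ Submodule.mem_top :
      v ∈ Sp.Dm E.e ⊔ Sp.B E.x)
  have hdP : d ∈ D.P b := Sp.Dm_le_P b (by
    rw [Dm, Sp.sigma_congr (Sp.eq_of_mem _ b E.he hb0 hb)]; exact hd)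
  have hzP : z ∈ D.P b := by simpa [← add_assoc, add_self'] using add_mem hdP (show d + z ∈ D.P b from hv)
  show D.β (d + z) φ = 0
  rw [map_add, LinearMap.add_apply, h z hz hzP, D.mem_ann.1 hd φ hφ, add_zero]

omit hA in
theorem mem_P_iff {a z : W} : z ∈ D.P a ↔ ∀ u ∈ D.F a, D.β z u = 0 := D.mem_ann

end Spread

open Spread in
/-- No spread when the flags at a vector form lines with no two vectors alike. -/
theorem Spread.no_two (Sp : Spread D) (hA : D.AT) (hc : ∀ a, a ≠ 0 → finrank F2 (D.F a) = 2)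
    (hcl : ∀ a b, a ≠ 0 → b ≠ 0 → D.F a = D.F b → a = b) : False := by
  obtain ⟨E⟩ := exists_pair Sp hA
  have hFc : ∀ a, a ≠ 0 → Nat.card (D.F a) = 4 := fun a ha => by
    rw [Module.natCard_eq_pow_finrank (K := F2) (V := ↥(D.F a)), hc a ha, Nat.card_zmod]; norm_num
  let g : W → W → (↥(D.F E.e) →ₗ[F2] F2) := fun z b => (D.β (lam E z b)).comp (D.F E.e).subtype
  have hg : ∀ z ∈ Sp.B E.x, ∀ w ∈ Sp.B E.x, ∀ b ∈ Sp.B E.e, b ≠ 0 → (g z b = g w b ↔ z + w ∈ D.P b) := by
    intro z hz w hw b hb hb0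
    rw [← sym_e hA E hz hw hb hb0, mem_P_iff, LinearMap.ext_iff]
    refine ⟨fun h u hu => ?_, fun h u => ?_⟩
    · have := h ⟨u, hu⟩
      rw [map_add, LinearMap.add_apply, show D.β (lam E z b) u = D.β (lam E w b) u from this, add_self']
    · have := h u.1 u.2
      rw [map_add, LinearMap.add_apply] at this
      exact add_eq_zero_iff'.1 this
  have hg0 : ∀ b ∈ Sp.B E.e, g 0 b = 0 := fun b hb => LinearMap.ext fun u => by
    show D.β (lam E 0 b) u.1 = 0
    rw [lam_zero_left hA E hb, map_zero]; rfl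
  have hdual : Nat.card (↥(D.F E.e) →ₗ[F2] F2) = 4 := by
    haveI : Finite (↥(D.F E.e) →ₗ[F2] F2) := Module.finite_of_finite F2
    rw [Module.natCard_eq_pow_finrank (K := F2) (V := ↥(D.F E.e) →ₗ[F2] F2), Subspace.dual_finrank_eq,
      hc _ E.he, Nat.card_zmod]
    norm_num
  -- linearity in the slope
  have hadd : ∀ z ∈ Sp.B E.x, ∀ w ∈ Sp.B E.x, ∀ b ∈ Sp.B E.e, g (z + w) b = g z b + g w b := by
    intro z hz w hw b hb
    by_cases hb0 : b = 0
    · subst hb0
      refine LinearMap.ext fun u => ?_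
      show D.β (lam E (z + w) 0) u.1 = D.β (lam E z 0) u.1 + D.β (lam E w 0) u.1
      rw [lam_zero_right hA E hz, lam_zero_right hA E hw, lam_zero_right hA E (add_mem hz hw)]
      simp
    have hzero : ∀ v ∈ Sp.B E.x, (g v b = 0 ↔ v ∈ D.P b) := fun v hv => by
      rw [← hg0 b hb, hg v hv 0 (zero_mem _) b hb hb0, add_zero]
    by_cases hz1 : g z b = 0
    · rw [hz1, zero_add, hg _ (add_mem hz hw) w hw b hb hb0, add_assoc, add_self', add_zero]
      exact (hzero z hz).1 hz1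
    by_cases hw1 : g w b = 0
    · rw [hw1, add_zero, hg _ (add_mem hz hw) z hz b hb hb0,
        show z + w + z = w by rw [add_comm z w, add_assoc, add_self', add_zero]]
      exact (hzero w hw).1 hw1
    by_cases hzw : g z b = g w b
    · rw [hzw, add_self', hzero _ (add_mem hz hw)]
      exact (hg z hz w hw b hb hb0).1 hzw
    haveI : Finite (↥(D.F E.e) →ₗ[F2] F2) := Module.finite_of_finite F2
    refine (add_eq_of_four hdual hz1 hw1 (fun h => hzw ((hg z hz w hw b hb hb0).2 ((hzero _ (add_mem hz hw)).1 h)))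
      hzw (fun h => hw1 ((hzero w hw).2 ?_)) fun h => hz1 ((hzero z hz).2 ?_)).symm
    · have := (hg z hz _ (add_mem hz hw) b hb hb0).1 h
      rwa [← add_assoc, add_self', zero_add] at this
    · have := (hg w hw _ (add_mem hz hw) b hb hb0).1 h
      rwa [add_comm z w, ← add_assoc, add_self', zero_add] at this
  -- the bilinear map
  have hex : ∀ u : D.F E.e, ∀ b : Sp.B E.e, ∃! φ : Sp.sigma E.e, ∀ z ∈ Sp.B E.x, D.β z φ = g z b u := by
    intro u b
    let ψ : Sp.B E.x →ₗ[F2] F2 :=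
      { toFun := fun z => g z b u
        map_add' := fun z w => by
          show g ((z : W) + w) b u = g z b u + g w b u
          rw [hadd z z.2 w w.2 b b.2]; rfl
        map_smul' := fun c z => by
          rcases f2_cases c with rfl | rfl
          · show g ((0 : F2) • (z : W)) b u = (0 : F2) • g z b u
            rw [zero_smul, zero_smul, hg0 b b.2]; rfl
          · show g ((1 : F2) • (z : W)) b u = (1 : F2) • g z b u
            rw [one_smul, one_smul] }
    obtain ⟨φ, hφ⟩ := D.swap.exists_eval (LinearMap.ofIsCompl (isCompl_X hA E) 0 ψ)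
    have hφs : φ ∈ Sp.sigma E.e := by
      rw [← D.ann_ann (Sp.sigma E.e), D.swap.mem_ann]
      intro v hv
      show D.β v φ = 0
      rw [show D.β v φ = D.swap.β φ v from rfl, hφ]
      exact LinearMap.ofIsCompl_apply_left (isCompl_X hA E) ⟨v, hv⟩
    refine ⟨⟨φ, hφs⟩, fun z hz => ?_, fun φ' hφ' => Subtype.ext (sub_eq_zero.1 (D.nd' _ fun v => ?_))⟩
    · rw [show D.β z φ = D.swap.β φ z from rfl, hφ]
      exact LinearMap.ofIsCompl_apply_right (isCompl_X hA E) ⟨z, hz⟩
    · obtain ⟨d, hd, z, hz, rfl⟩ := Submodule.mem_sup.1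
        ((codisjoint_iff.1 (isCompl_X hA E).codisjoint).symm ▸ Submodule.mem_top :
          v ∈ Sp.Dm E.e ⊔ Sp.B E.x)
      have e1 := D.mem_ann.1 hd _ φ'.2
      have e2 := D.mem_ann.1 hd φ hφs
      have e3 : D.β z φ = g z b u := by
        rw [show D.β z φ = D.swap.β φ z from rfl, hφ]
        exact LinearMap.ofIsCompl_apply_right (isCompl_X hA E) ⟨z, hz⟩
      simp only [map_sub, map_add, LinearMap.add_apply, e1, e2, hφ' z hz, e3]
      simp
  choose A hAspec hAuniq using hex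
  have hA_addl : ∀ u v b, A (u + v) b = A u b + A v b := fun u v b => (hAuniq (u + v) b _ fun z hz => by
    rw [Submodule.coe_add, map_add, hAspec u b z hz, hAspec v b z hz, map_add]).symm
  have hA_addr : ∀ u b c, A u (b + c) = A u b + A u c := fun u b c => (hAuniq u (b + c) _ fun z hz => by
    show D.β z ((A u b : W') + (A u c : W')) = g z ((b : W) + c) u
    rw [map_add, hAspec u b z hz, hAspec u c z hz]
    show g z b u + g z c u = D.β (lam E z ((b : W) + c)) u.1
    rw [lam_add hA E hz b.2 c.2, map_add]; rfl).symm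
  have hA0 : ∀ (u : D.F E.e) (b : Sp.B E.e), (b : W) ≠ 0 → A u b = 0 → u = 0 := by
    intro u b hb0 h
    refine Subtype.ext (D.nd' _ fun v => ?_)
    obtain ⟨d, hd, w, hw, rfl⟩ := Submodule.mem_sup.1
      ((codisjoint_iff.1 (isCompl_X hA E).codisjoint).symm ▸ Submodule.mem_top :
        v ∈ Sp.Dm E.e ⊔ Sp.B E.x)
    obtain ⟨z, hz, rfl⟩ := lam_surj hA E b.2 hb0 hw
    have e := hAspec u b z hz
    rw [h] at e
    have e2 : D.β (lam E z b) u.1 = 0 := e.symm.trans (map_zero _)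
    rw [map_add, LinearMap.add_apply, e2, add_zero]
    exact D.mem_ann.1 hd _ (Sp.F_le_sigma E.e u.2)
  have hAF : ∀ (u : D.F E.e) (b : Sp.B E.e), (b : W) ≠ 0 → (A u b : W') ∈ D.F (b : W) := fun u b hb0 =>
    mem_F_of_sigma hA E b.2 hb0 (A u b).2 fun z hz hzP => by
      rw [hAspec u b z hz, show g z b = 0 from (hg z hz 0 (zero_mem _) b b.2 hb0).2 (by rwa [add_zero]) |>.trans (hg0 b b.2)]
      rfl
  have hAinj : ∀ u, u ≠ 0 → Function.Injective (A u) := by
    intro u hu b c h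
    by_contra hbc
    refine hu (hA0 u (b + c) (fun e => hbc (Subtype.ext (add_eq_zero_iff'.1 e))) ?_)
    rw [hA_addr, h, add_self']
  have hAsurj : ∀ u, u ≠ 0 → ∀ φ, ∃ b, A u b = φ := by
    intro u hu φ
    refine ((Nat.bijective_iff_injective_and_card (A u)).2 ⟨hAinj u hu, ?_⟩).2 φ
    rw [Module.natCard_eq_pow_finrank (K := F2) (V := ↥(Sp.B E.e)),
      Module.natCard_eq_pow_finrank (K := F2) (V := ↥(Sp.sigma E.e)), Sp.dim _ E.he, Sp.finrank_sigma hA E.he]
  -- three distinct nonzero elements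
  obtain ⟨u, hu⟩ : ∃ u : D.F E.e, u ≠ 0 := by
    haveI : Nontrivial (D.F E.e) := (Submodule.nontrivial_iff_ne_bot).2 (hA.F_ne_bot E.he)
    exact exists_ne 0
  obtain ⟨v, hv, hvu⟩ : ∃ v : D.F E.e, v ≠ 0 ∧ v ≠ u := by
    haveI := Fintype.ofFinite (D.F E.e)
    have h2 : ({0, u} : Finset (D.F E.e)).card < Fintype.card (D.F E.e) := by
      rw [← Nat.card_eq_fintype_card, hFc _ E.he]
      exact lt_of_le_of_lt Finset.card_le_two (by norm_num)
    obtain ⟨v, -, hv⟩ := Finset.exists_mem_notMem_of_card_lt_card (s := {0, u}) (t := (Finset.univ : Finset (D.F E.e))) (by rw [Finset.card_univ]; exact h2)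
    simp only [Finset.mem_insert, Finset.mem_singleton, not_or] at hv
    exact ⟨v, hv.1, hv.2⟩
  have hw : u + v ≠ 0 := fun e => hvu (add_eq_zero_iff'.1 e).symm
  obtain ⟨φ, hφ0⟩ : ∃ φ : Sp.sigma E.e, φ ≠ 0 :=
    ⟨A u ⟨E.e, Sp.mem _⟩, fun h => hu (hA0 u _ E.he h)⟩
  obtain ⟨b, hb⟩ := hAsurj v hv φ
  obtain ⟨bu, hbu⟩ := hAsurj u hu φ
  obtain ⟨bw, hbw⟩ := hAsurj (u + v) hw φ
  have hbne : ∀ t (c : Sp.B E.e), A t c = φ → (c : W) ≠ 0 := by
    intro t c hc e
    refine hφ0 ?_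
    rw [← hc, show c = 0 from Subtype.ext e]
    have h' := hA_addr t 0 0
    rwa [add_zero, left_eq_add] at h'
  have hdist : ∀ t t' (c c' : Sp.B E.e), A t c = φ → A t' c' = φ → t ≠ t' → c ≠ c' := by
    rintro t t' c c' h h' hne rfl
    refine hne (add_eq_zero_iff'.1 (hA0 (t + t') c (hbne t c h) ?_))
    rw [hA_addl, h, h', add_self']
  have hQ : ∀ t (c : Sp.B E.e), A t c = φ → (c : W) ∈ D.swap.F (φ : W') := fun t c hc =>
    (hA.mem_F_swap (hbne t c hc) (fun e => hφ0 (Subtype.ext e))).1 (hc ▸ hAF t c (hbne t c hc))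
  have hQc : Nat.card (D.swap.F (φ : W')) = 4 := by
    rw [Module.natCard_eq_pow_finrank (K := F2) (V := ↥(D.swap.F (φ : W'))),
      ← hA.finrank_F_swap E.he (fun e => hφ0 (Subtype.ext e)), hc _ E.he, Nat.card_zmod]
    norm_num
  have hsum : (bu : W) + b = bw := congrArg Subtype.val (add_eq_of_four hQc
    (p := (⟨bu, hQ u bu hbu⟩ : ↥(D.swap.F (φ : W')))) (q := ⟨b, hQ v b hb⟩) (r := ⟨bw, hQ _ bw hbw⟩)
    (fun e => hbne u bu hbu (congrArg Subtype.val e)) (fun e => hbne v b hb (congrArg Subtype.val e))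
    (fun e => hbne _ bw hbw (congrArg Subtype.val e))
    (fun e => hdist u v bu b hbu hb hvu.symm (Subtype.ext (congrArg Subtype.val e :)))
    (fun e => hdist u (u + v) bu bw hbu hbw (fun h => hv (left_eq_add.1 h)) (Subtype.ext (congrArg Subtype.val e :)))
    fun e => hdist v (u + v) b bw hb hbw (fun h => hu (right_eq_add.1 h)) (Subtype.ext (congrArg Subtype.val e :)))
  have hbw' : bw = bu + b := Subtype.ext hsum.symm
  -- the two vectors have the same flags
  have hkey : A v bu = A (u + v) b := by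
    rw [hbw', hA_addl, hA_addr, hA_addr, hbu, hb] at hbw
    rw [hA_addl, hb]
    have : A v bu + (A u b + φ) = 0 := by
      calc A v bu + (A u b + φ) = (φ + A u b + (A v bu + φ)) + φ := by
            rw [show φ + A u b + (A v bu + φ) + φ = A v bu + A u b + φ + (φ + φ) by abel, add_self', add_zero,
              add_assoc]
        _ = φ + φ := by rw [hbw]
        _ = 0 := add_self' φ
    exact add_eq_zero_iff'.1 this
  have hFeq : D.F (bu : W) = D.F (b : W) := by
    symm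
    have hFb : ∀ χ ∈ D.F (b : W), ∃ t, (A t b : W') = χ := by
      intro χ hχ
      let f : D.F E.e → D.F (b : W) := fun t => ⟨A t b, hAF t b (hbne v b hb)⟩
      have hf : Function.Injective f := fun t t' h => add_eq_zero_iff'.1 (hA0 (t + t') b (hbne v b hb) (by
        rw [hA_addl, show A t b = A t' b from Subtype.ext (congrArg Subtype.val h :), add_self']))
      obtain ⟨t, ht⟩ := ((Nat.bijective_iff_injective_and_card f).2 ⟨hf, by rw [hFc _ E.he, hFc _ (hbne v b hb)]⟩).2 ⟨χ, hχ⟩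
      exact ⟨t, congrArg Subtype.val ht⟩
    refine Submodule.eq_of_le_of_finrank_eq (fun χ hχ => ?_) (by rw [hc _ (hbne v b hb), hc _ (hbne u bu hbu)])
    obtain ⟨t, rfl⟩ := hFb χ hχ
    have h1 : (A v b : W') ∈ D.F (bu : W) := by rw [hb, ← hbu]; exact hAF u bu (hbne u bu hbu)
    have h2 : (A (u + v) b : W') ∈ D.F (bu : W) := by rw [← hkey]; exact hAF v bu (hbne u bu hbu)
    have h3 : (A u b : W') ∈ D.F (bu : W) := by
      have := add_mem h2 h1
      rwa [← Submodule.coe_add, hA_addl, add_assoc, add_self', add_zero] at this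
    have ht4 : t = 0 ∨ t = u ∨ t = v ∨ t = u + v := by
      by_contra hn
      simp only [not_or] at hn
      exact hn.2.2.2 (add_eq_of_four (hFc _ E.he) hu hv hn.1 hvu.symm (Ne.symm hn.2.1) (Ne.symm hn.2.2.1)).symm
    rcases ht4 with rfl | rfl | rfl | rfl
    · have h' := hA_addl 0 0 b
      rw [add_zero, left_eq_add] at h'
      rw [h']; exact zero_mem _
    · exact h3
    · exact h1
    · exact h2
  exact hdist u v bu b hbu hb hvu.symm (Subtype.ext (hcl _ _ (hbne u bu hbu) (hbne v b hb) hFeq))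

open Spread in
/-- No spread by blocks of which the flags at a functional are hyperplanes. -/
theorem Spread.no_big (Sp : Spread D) (hA : D.AT) (hc : ∀ a, a ≠ 0 → finrank F2 (D.F a) + 1 = Sp.f)
    (hf : 4 ≤ Sp.f) : False := by
  obtain ⟨E⟩ := exists_pair Sp hA
  -- the second block meets `P a` in one vector
  have hμ : ∀ a ∈ Sp.B E.e, ∃ z ∈ Sp.B E.x, ∀ φ ∈ Sp.sigma E.e, (D.β z φ = 0 ↔ (a = 0 ∨ φ ∈ D.F a)) := by
    intro a ha
    by_cases ha0 : a = 0
    · exact ⟨0, zero_mem _, fun φ _ => by simp [ha0]⟩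
    have hd : finrank F2 ↥(D.P a ⊓ Sp.B E.x) = 1 := by
      have h1 := hA.finrank_P (a := a)
      have h2 := hc a ha0
      have hsup : D.P a ⊔ Sp.B E.x = ⊤ := by
        refine eq_top_iff.2 (le_trans (le_of_eq (codisjoint_iff.1 (isCompl_X hA E).codisjoint).symm) (sup_le_sup_right ?_ _))
        rw [Dm, Sp.sigma_congr (Sp.eq_of_mem _ a E.he ha0 ha).symm]
        exact Sp.Dm_le_P a
      have h3 := Submodule.finrank_sup_add_finrank_inf_eq (D.P a) (Sp.B E.x)
      rw [hsup, finrank_top, Sp.dim _ (x_ne E)] at h3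
      omega
    obtain ⟨z, hz0, hz⟩ := finrank_eq_one_iff'.1 hd
    refine ⟨z, z.2.2, fun φ hφ => ⟨fun h => Or.inr (mem_F_of_sigma hA E ha ha0 hφ fun v hv hvP => ?_), ?_⟩⟩
    · obtain ⟨c, hc'⟩ := hz ⟨v, hvP, hv⟩
      rw [show v = c • (z : W) from (congrArg Subtype.val hc').symm, map_smul, LinearMap.smul_apply, h, smul_zero]
    · rintro (h | h)
      · exact absurd h ha0
      · exact mem_P_iff.1 z.2.1 φ h
  choose! μ hμX hμ using hμ
  have hμP : ∀ a ∈ Sp.B E.e, μ a ∈ D.P a := fun a ha => mem_P_iff.2 fun φ hφ => by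
    by_cases ha0 : a = 0
    · by_cases hφ' : φ ∈ Sp.sigma E.e
      · exact (hμ a ha φ hφ').2 (Or.inl ha0)
      · have : φ = 0 := by
          have hbot : D.F (0 : W) = ⊥ := by
            rw [Duo.F, Submodule.span_eq_bot]
            exact fun χ hχ => absurd rfl hχ.1
          rw [ha0, hbot, Submodule.mem_bot] at hφ
          exact hφ
        rw [this, map_zero]
    · exact (hμ a ha φ (mem_sigma_of_mem_F E ha ha0 hφ)).2 (Or.inr hφ)
  have hzero : ∀ z ∈ Sp.B E.x, (∀ φ ∈ Sp.sigma E.e, D.β z φ = 0) → z = 0 := fun z hz h =>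
    disjoint_X hA E (D.mem_ann.2 h) hz
  have hμ0 : ∀ a ∈ Sp.B E.e, a ≠ 0 → μ a ≠ 0 := by
    intro a ha ha0 h
    have hle : Sp.sigma E.e ≤ D.F a := fun φ hφ => ((hμ a ha φ hφ).1 (by rw [h, map_zero]; rfl)).resolve_left ha0
    have h1 := Submodule.finrank_mono hle
    rw [Sp.finrank_sigma hA E.he] at h1
    have := hc a ha0
    omega
  have hzm : ∀ a ∈ Sp.B E.e, a ≠ 0 → ∀ v ∈ Sp.B E.x, v ≠ 0 → v ∈ D.P a → v = μ a := by
    intro a ha ha0 v hv hv0 hvP
    refine add_eq_zero_iff'.1 (hzero _ (add_mem hv (hμX a ha)) fun φ hφ => ?_)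
    rw [map_add, LinearMap.add_apply]
    rcases f2_cases (D.β (μ a) φ) with h | h
    · rw [h, mem_P_iff.1 hvP φ (((hμ a ha φ hφ).1 h).resolve_left ha0), add_zero]
    · rcases f2_cases (D.β v φ) with h' | h'
      · exfalso
        -- then `v` kills all of the functionals
        have hφF : φ ∉ D.F a := fun hh => zero_ne_one (((hμ a ha φ hφ).2 (Or.inr hh)).symm.trans h)
        refine hv0 (hzero v hv fun χ hχ => ?_)
        rcases f2_cases (D.β (μ a) χ) with hχ0 | hχ1
        · exact mem_P_iff.1 hvP χ (((hμ a ha χ hχ).1 hχ0).resolve_left ha0)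
        · have e := mem_P_iff.1 hvP (χ + φ) (((hμ a ha _ (add_mem hχ hφ)).1 (by
            rw [map_add, hχ1, h]; decide)).resolve_left ha0)
          rwa [map_add, h', add_zero] at e
      · rw [h, h']; decide
  have hμadd : ∀ a ∈ Sp.B E.e, ∀ b ∈ Sp.B E.e, μ (a + b) = μ a + μ b := by
    intro a ha b hb
    refine add_eq_zero_iff'.1 (hzero _ (add_mem (hμX _ (add_mem ha hb)) (add_mem (hμX a ha) (hμX b hb))) fun φ hφ => ?_)
    rw [map_add, map_add, LinearMap.add_apply, LinearMap.add_apply]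
    by_cases hφ0 : φ = 0
    · simp [hφ0]
    obtain ⟨c, hc'⟩ := hA.swap.exists_R hφ0
    have hcR := D.swap_R.1 hc'
    have hQ : ∀ x ∈ Sp.B E.e, (D.β (μ x) φ = 0 ↔ x ∈ D.swap.F φ) := by
      intro x hx
      rw [hμ x hx φ hφ]
      by_cases hx0 : x = 0
      · simp [hx0]
      · rw [or_iff_right hx0, hA.mem_F_swap hx0 hφ0]
    have hQle : D.swap.F φ ≤ Sp.B E.e := fun x hx => by
      by_cases hx0 : x = 0
      · rw [hx0]; exact zero_mem _
      have hR := (hA.mem_F hx0 hφ0).1 ((hA.mem_F_swap hx0 hφ0).2 hx)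
      rw [Sp.Bl_unique ((Sp.Dm_spec hA E.he).2.2 φ hφ hφ0) ⟨x, hR, rfl⟩]
      exact Sp.mem x
    have hclose : ∀ x ∈ Sp.B E.e, ∀ y ∈ Sp.B E.e, x ∉ D.swap.F φ → y ∉ D.swap.F φ → x + y ∈ D.swap.F φ := by
      intro x hx y hy hxn hyn
      have hlt : D.swap.F φ < D.swap.F φ ⊔ Submodule.span F2 {x} := left_lt_sup.2 fun h =>
        hxn (h (Submodule.mem_span_singleton_self x))
      have hle : D.swap.F φ ⊔ Submodule.span F2 {x} ≤ Sp.B E.e := sup_le hQle ((Submodule.span_singleton_le_iff_mem _ _).2 hx)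
      have heq : D.swap.F φ ⊔ Submodule.span F2 {x} = Sp.B E.e := by
        refine Submodule.eq_of_le_of_finrank_le hle ?_
        have h1 := Submodule.finrank_lt_finrank_of_lt hlt
        have h2 := hc _ E.he
        rw [hA.finrank_F_swap E.he hφ0] at h2
        rw [Sp.dim _ E.he]
        omega
      rw [← heq, Submodule.mem_sup] at hy
      obtain ⟨q, hq, s, hs, rfl⟩ := hy
      obtain ⟨k, rfl⟩ := Submodule.mem_span_singleton.1 hs
      rcases f2_cases k with rfl | rfl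
      · exact absurd (by rwa [zero_smul, add_zero]) hyn
      · rw [one_smul, ← add_assoc, add_comm x q, add_assoc, add_self', add_zero]; exact hq
    have e1 := hQ a ha
    have e2 := hQ b hb
    have e3 := hQ _ (add_mem ha hb)
    rcases f2_cases (D.β (μ a) φ) with h1 | h1 <;> rcases f2_cases (D.β (μ b) φ) with h2 | h2
    · rw [h1, h2, e3.2 (add_mem (e1.1 h1) (e2.1 h2))]; rfl
    · rcases f2_cases (D.β (μ (a + b)) φ) with h3 | h3
      · exfalso
        have hb' := add_mem (e1.1 h1) (e3.1 h3)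
        rw [← add_assoc, add_self', zero_add] at hb'
        exact zero_ne_one ((e2.2 hb').symm.trans h2)
      · rw [h1, h2, h3]; decide
    · rcases f2_cases (D.β (μ (a + b)) φ) with h3 | h3
      · exfalso
        have ha' := add_mem (e3.1 h3) (e2.1 h2)
        rw [add_assoc, add_self', add_zero] at ha'
        exact zero_ne_one ((e1.2 ha').symm.trans h1)
      · rw [h1, h2, h3]; decide
    · rw [h1, h2, e3.2 (hclose a ha b hb (fun h => zero_ne_one ((e1.2 h).symm.trans h1))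
        fun h => zero_ne_one ((e2.2 h).symm.trans h2))]
      decide
  -- fixed spaces of the slopes
  let T : (z : W) → z ∈ Sp.B E.x → (↥(Sp.B E.e) →ₗ[F2] W) := fun z hz =>
    { toFun := fun a => lam E z a + μ a
      map_add' := fun a b => by
        rw [Submodule.coe_add, lam_add hA E hz a.2 b.2, hμadd a a.2 b b.2]; abel
      map_smul' := fun c a => by
        rcases f2_cases c with rfl | rfl
        · have h0 := hμadd 0 (zero_mem _) 0 (zero_mem _)
          rw [add_zero, add_self'] at h0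
          rw [zero_smul, RingHom.id_apply, zero_smul, ZeroMemClass.coe_zero, lam_zero_right hA E hz, h0, add_zero]
        · rw [one_smul, RingHom.id_apply, one_smul] }
  have hker : ∀ z (hz : z ∈ Sp.B E.x), z ≠ 0 → 2 ≤ finrank F2 (LinearMap.ker (T z hz)) := by
    intro z hz hz0
    let μl : LinearMap.ker (T z hz) →ₗ[F2] W :=
      { toFun := fun a => μ (a : W)
        map_add' := fun a b => hμadd _ a.1.2 _ b.1.2
        map_smul' := fun c a => by
          rcases f2_cases c with rfl | rfl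
          · have h0 := hμadd 0 (zero_mem _) 0 (zero_mem _)
            rw [add_zero, add_self'] at h0
            simp [h0]
          · simp }
    have hle : LinearMap.range (T z hz) ≤ LinearMap.range μl := by
      rintro _ ⟨a, rfl⟩
      by_cases ha0 : (a : W) = 0
      · rw [show a = 0 from Subtype.ext ha0, map_zero]; exact zero_mem _
      -- the vector matched to `lam z a`
      obtain ⟨hl, -⟩ := lam_spec hA E hz a.2
      let f : Sp.B E.e → Sp.B E.x := fun b => ⟨μ b, hμX b b.2⟩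
      have hf : Function.Injective f := fun b b' h => by
        by_contra hne
        refine hμ0 _ (add_mem b.2 b'.2) (fun e => hne (Subtype.ext (add_eq_zero_iff'.1 e))) ?_
        rw [hμadd b b.2 b' b'.2, show μ (b : W) = μ (b' : W) from congrArg Subtype.val h, add_self']
      obtain ⟨b, hb⟩ := ((Nat.bijective_iff_injective_and_card f).2 ⟨hf, by
        rw [Module.natCard_eq_pow_finrank (K := F2) (V := ↥(Sp.B E.e)),
          Module.natCard_eq_pow_finrank (K := F2) (V := ↥(Sp.B E.x)), Sp.dim _ E.he, Sp.dim _ (x_ne E)]⟩).2 ⟨_, hl⟩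
      have hb' : μ (b : W) = lam E z a := congrArg Subtype.val hb
      have hb0 : (b : W) ≠ 0 := fun e => by
        have h0 := hμadd 0 (zero_mem _) 0 (zero_mem _)
        rw [add_zero, add_self'] at h0
        rw [e, h0, ← lam_zero_left hA E a.2] at hb'
        exact hz0 (lam_inj_left hA E hz (zero_mem _) a.2 ha0 hb'.symm)
      have hbz : lam E z b = μ a := by
        have h1 : lam E z a + lam E 0 a ∈ D.P b := by
          rw [lam_zero_left hA E a.2, add_zero, ← hb']; exact hμP b b.2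
        have h2 := sym_imp hA E hz (zero_mem _) a.2 ha0 b.2 hb0 h1
        rw [lam_zero_left hA E b.2, add_zero] at h2
        refine hzm a a.2 ha0 _ (lam_spec hA E hz b.2).1 (fun e => hz0 ?_) h2
        exact lam_inj_left hA E hz (zero_mem _) b.2 hb0 (e.trans (lam_zero_left hA E b.2).symm)
      refine ⟨⟨a + b, ?_⟩, ?_⟩
      · rw [LinearMap.mem_ker]
        show lam E z ((a : W) + b) + μ ((a : W) + b) = 0
        rw [lam_add hA E hz a.2 b.2, hμadd a a.2 b b.2, hbz, hb', add_comm (μ (a : W)) (lam E z a), add_self']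
      · show μ ((a : W) + b) = lam E z a + μ a
        rw [hμadd a a.2 b b.2, hb', add_comm]
    have h1 := Submodule.finrank_mono hle
    have h2 := LinearMap.finrank_range_le μl
    have h3 := (T z hz).finrank_range_add_finrank_ker
    rw [Sp.dim _ E.he] at h3
    omega
  set Z : Finset W := (Finset.univ.filter fun z : W => z ∈ Sp.B E.x).erase 0
  set A : Finset W := (Finset.univ.filter fun a : W => a ∈ Sp.B E.e).erase 0
  have hcnt := Finset.sum_card_bipartiteAbove_eq_sum_card_bipartiteBelow (s := Z) (t := A)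
    (r := fun z a => lam E z a = μ a)
  have h1 : ∀ a ∈ A, (Z.bipartiteBelow (fun z a => lam E z a = μ a) a).card ≤ 1 := by
    intro a ha
    obtain ⟨ha0, ha'⟩ := Finset.mem_erase.1 ha
    refine Finset.card_le_one.2 fun z hz w hw => ?_
    obtain ⟨hz', hz''⟩ := Finset.mem_filter.1 hz
    obtain ⟨hw', hw''⟩ := Finset.mem_filter.1 hw
    exact lam_inj_left hA E (Finset.mem_filter.1 (Finset.mem_erase.1 hz').2).2
      (Finset.mem_filter.1 (Finset.mem_erase.1 hw').2).2 (Finset.mem_filter.1 ha').2 ha0 (hz''.trans hw''.symm)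
  have h3 : ∀ z ∈ Z, 3 ≤ (A.bipartiteAbove (fun z a => lam E z a = μ a) z).card := by
    intro z hz
    obtain ⟨hz0, hz'⟩ := Finset.mem_erase.1 hz
    have hzX := (Finset.mem_filter.1 hz').2
    have hk := hker z hzX hz0
    let p : Submodule F2 W := (LinearMap.ker (T z hzX)).map (Sp.B E.e).subtype
    have hp : 2 ≤ finrank F2 p := by
      rw [Submodule.finrank_map_subtype_eq]; exact hk
    calc 3 ≤ ((Finset.univ.filter fun a : W => a ∈ p).erase 0).card := by
          rw [Finset.card_erase_of_mem (by simp), card_submodule]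
          have := Nat.pow_le_pow_right (n := 2) two_pos hp
          omega
      _ ≤ _ := Finset.card_le_card fun a ha => by
          obtain ⟨ha0, ha'⟩ := Finset.mem_erase.1 ha
          obtain ⟨b, hb, rfl⟩ := (Finset.mem_filter.1 ha').2
          exact Finset.mem_filter.2 ⟨Finset.mem_erase.2 ⟨ha0, Finset.mem_filter.2 ⟨Finset.mem_univ _, b.2⟩⟩,
            add_eq_zero_iff'.1 (LinearMap.mem_ker.1 hb)⟩
  have hsum1 : ∑ a ∈ A, (Z.bipartiteBelow (fun z a => lam E z a = μ a) a).card ≤ A.card * 1 := by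
    simpa using Finset.sum_le_card_nsmul A _ 1 h1
  have hsum3 : Z.card * 3 ≤ ∑ z ∈ Z, (A.bipartiteAbove (fun z a => lam E z a = μ a) z).card := by
    simpa using Finset.card_nsmul_le_sum Z _ 3 h3
  have hZA : Z.card = A.card := by
    simp only [Z, A]
    rw [Finset.card_erase_of_mem (by simp), Finset.card_erase_of_mem (by simp), card_submodule, card_submodule,
      Sp.dim _ E.he, Sp.dim _ (x_ne E)]
  have hpos : 0 < A.card := Finset.card_pos.2 ⟨E.e, Finset.mem_erase.2 ⟨E.he,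
    Finset.mem_filter.2 ⟨Finset.mem_univ _, Sp.mem _⟩⟩⟩
  omega

end CfsgLib.MersenneLin
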