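import Cfsg.Agent.MersenneLinear.AT

/-!
# A spread containing the dual flags

The functionals of one block share a common zero space of complementary dimension which is a union
of blocks.
-/

set_option autoImplicit false
set_option linter.unusedSectionVars false
set_option linter.style.haveILetI false

namespace CfsgLib.MersenneLin

open Module
open scoped Classical

universe u v w

variable {G : Type u} [Group G] {W : Type v} {W' : Type w} [AddCommGroup W] [Module F2 W]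
  [AddCommGroup W'] [Module F2 W'] [Finite G] [Finite W] [Finite W']

/-- An invariant spread such that the vectors of the flags at a functional lie in one block. -/
structure Spread (D : Duo G W W') where
  B : W → Submodule F2 W
  f : ℕ
  mem : ∀ a, a ∈ B a
  eq_of_mem : ∀ a b, a ≠ 0 → b ≠ 0 → b ∈ B a → B b = B a
  map : ∀ g a, B (D.r g a) = (B a).map (D.r g : W →ₗ[F2] W)
  dim : ∀ a, a ≠ 0 → finrank F2 (B a) = f
  proper : f < finrank F2 W
  sub : ∀ a b φ, D.R a φ → D.R b φ → B b = B a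

theorem card_submodule {U : Type*} [AddCommGroup U] [Module F2 U] [Finite U] [Fintype U] (p : Submodule F2 U) :
    (Finset.univ.filter (fun x : U => x ∈ p)).card = 2 ^ finrank F2 p := by
  rw [← Fintype.card_subtype, ← Nat.card_eq_fintype_card, Module.natCard_eq_pow_finrank (K := F2) (V := ↥p),
    Nat.card_zmod]

theorem card_univ_pow {U : Type*} [AddCommGroup U] [Module F2 U] [Finite U] [Fintype U] :
    Fintype.card U = 2 ^ finrank F2 U := by
  rw [← Nat.card_eq_fintype_card, Module.natCard_eq_pow_finrank (K := F2) (V := U), Nat.card_zmod]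

variable {D : Duo G W W'}

namespace Spread

variable (Sp : Spread D)

theorem f_pos {a : W} (ha : a ≠ 0) : 0 < Sp.f := by
  rw [← Sp.dim a ha, Module.finrank_pos_iff]
  exact ⟨⟨⟨a, Sp.mem a⟩, 0, fun e => ha (congrArg Subtype.val e)⟩⟩

theorem mem_map_iff (g : G) {a z : W} : D.r g z ∈ Sp.B (D.r g a) ↔ z ∈ Sp.B a := by
  rw [Sp.map]
  exact ⟨fun ⟨y, hy, e⟩ => (D.r g).injective e ▸ hy, fun h => ⟨z, h, rfl⟩⟩

theorem B_map_congr (g : G) {a b : W} (h : Sp.B a = Sp.B b) : Sp.B (D.r g a) = Sp.B (D.r g b) := by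
  rw [Sp.map, Sp.map, h]

/-- The functional belongs to the block of `a`. -/
def Bl (a : W) (φ : W') : Prop := ∃ b, D.R b φ ∧ Sp.B b = Sp.B a

theorem Bl_ne {a : W} {φ : W'} (h : Sp.Bl a φ) : φ ≠ 0 := by
  obtain ⟨b, hb, -⟩ := h
  exact hb.2.1

theorem Bl_unique {a a' : W} {φ : W'} (h : Sp.Bl a φ) (h' : Sp.Bl a' φ) : Sp.B a = Sp.B a' := by
  obtain ⟨b, hb, e⟩ := h
  obtain ⟨b', hb', e'⟩ := h'
  rw [← e, ← e', Sp.sub b b' φ hb hb']

theorem Bl_congr {a a' : W} {φ : W'} (h : Sp.Bl a φ) (e : Sp.B a = Sp.B a') : Sp.Bl a' φ :=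
  h.imp fun _ hb => ⟨hb.1, hb.2.trans e⟩

theorem Bl_map (g : G) {a : W} {φ : W'} : Sp.Bl (D.r g a) (D.r' g φ) ↔ Sp.Bl a φ := by
  constructor
  · rintro ⟨b, hb, e⟩
    refine ⟨D.r g⁻¹ b, (D.R_iff_map g).1 (by rw [D.r_apply_inv]; exact hb), ?_⟩
    have := Sp.B_map_congr g⁻¹ e
    rwa [D.r_inv_apply] at this
  · rintro ⟨b, hb, e⟩
    exact ⟨_, D.R_map hb g, Sp.B_map_congr g e⟩

/-- The functionals of a block. -/
def sigma (a : W) : Submodule F2 W' := Submodule.span F2 {φ | Sp.Bl a φ}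

/-- Their common zeros. -/
def Dm (a : W) : Submodule F2 W := D.ann (Sp.sigma a)

theorem F_le_sigma (a : W) : D.F a ≤ Sp.sigma a :=
  Submodule.span_mono fun _ hφ => ⟨a, hφ, rfl⟩

theorem Dm_le_P (a : W) : Sp.Dm a ≤ D.P a := fun z hz =>
  D.mem_ann.2 fun φ hφ => D.mem_ann.1 hz φ (Sp.F_le_sigma a hφ)

variable (hA : D.AT)
include hA

theorem exists_Bl {φ : W'} (hφ : φ ≠ 0) : ∃ b, D.R b φ := by
  obtain ⟨b, hb⟩ := hA.swap.exists_R hφ
  exact ⟨b, D.swap_R.1 hb⟩

/-- A block lies in the kernel of each of its functionals. -/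
theorem vanish {a : W} {φ : W'} (h : Sp.Bl a φ) : ∀ z ∈ Sp.B a, D.β z φ = 0 := by
  obtain ⟨b, hb, e⟩ := h
  rw [← e]
  by_contra hc
  push Not at hc
  obtain ⟨z, hz, hz1⟩ := hc
  have hz1 := f2_eq_one hz1
  have hoff : ∀ y, D.β y φ = 1 → y ∈ Sp.B b := by
    intro y hy
    obtain ⟨g, hg, hgz⟩ := hA.off_trans_flag hb hz1 hy
    have := (Sp.mem_map_iff g).2 hz
    rwa [hg, hgz] at this
  have htop : Sp.B b = ⊤ := by
    refine eq_top_iff.2 fun y _ => ?_
    rcases f2_cases (D.β y φ) with hy | hy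
    · have := sub_mem (hoff (y + z) (by rw [map_add, LinearMap.add_apply, hy, hz1, zero_add])) hz
      rwa [add_sub_cancel_right] at this
    · exact hoff y hy
  have h1 := Sp.dim b hb.1
  rw [htop, finrank_top] at h1
  exact Sp.proper.ne h1.symm

variable [Fintype W] [Fintype W']

theorem card_Bl {a : W} (ha : a ≠ 0) :
    (Finset.univ.filter fun φ => Sp.Bl a φ).card + 1 = 2 ^ Sp.f := by
  set A : Finset W := Finset.univ.filter (· ≠ 0)
  set B' : Finset W' := Finset.univ.filter (· ≠ 0)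
  have h := Finset.sum_card_bipartiteAbove_eq_sum_card_bipartiteBelow (s := A) (t := B') (r := Sp.Bl)
  have e1 : ∀ x ∈ A, (B'.bipartiteAbove Sp.Bl x).card = (Finset.univ.filter fun φ => Sp.Bl a φ).card := by
    intro x hx
    obtain ⟨g, rfl⟩ := hA.transitive ha (Finset.mem_filter.1 hx).2
    refine Finset.card_bij' (fun φ _ => D.r' g⁻¹ φ) (fun φ _ => D.r' g φ) (fun φ hφ => ?_) (fun φ hφ => ?_)
      (fun φ _ => D.r'_apply_inv g φ) (fun φ _ => D.swap.r_inv_apply g φ)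
    · refine Finset.mem_filter.2 ⟨Finset.mem_univ _, (Sp.Bl_map g).1 ?_⟩
      rw [D.r'_apply_inv]
      exact (Finset.mem_filter.1 hφ).2
    · have := (Sp.Bl_map g).2 (Finset.mem_filter.1 hφ).2
      exact Finset.mem_filter.2 ⟨Finset.mem_filter.2 ⟨Finset.mem_univ _, Sp.Bl_ne this⟩, this⟩
  have e2 : ∀ φ ∈ B', (A.bipartiteBelow Sp.Bl φ).card + 1 = 2 ^ Sp.f := by
    intro φ hφ
    obtain ⟨b, hb⟩ := exists_Bl hA (Finset.mem_filter.1 hφ).2
    have e : A.bipartiteBelow Sp.Bl φ = (Finset.univ.filter fun x : W => x ∈ Sp.B b).erase 0 := by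
      ext x
      simp only [Finset.bipartiteBelow, A, Finset.mem_filter, Finset.mem_univ, true_and, Finset.mem_erase]
      refine and_congr_right fun hx => ⟨fun h => ?_, fun h => ⟨b, hb, (Sp.eq_of_mem b x hb.1 hx h).symm⟩⟩
      rw [← Sp.Bl_unique h ⟨b, hb, rfl⟩]
      exact Sp.mem x
    rw [e, Finset.card_erase_add_one (by simp), card_submodule, Sp.dim b hb.1]
  rw [Finset.sum_const_nat e1,
    Finset.sum_const_nat (m := 2 ^ Sp.f - 1) fun φ hφ => by have := e2 φ hφ; omega] at h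
  have hAB : A.card = B'.card := by
    simp only [A, B', Finset.filter_ne', Finset.card_erase_of_mem (Finset.mem_univ _), Finset.card_univ,
      card_univ_pow, D.finrank_eq]
  rw [hAB] at h
  have := Nat.eq_of_mul_eq_mul_left (Finset.card_pos.2 (by
    obtain ⟨φ, hφ⟩ := hA.exists_R ha
    exact ⟨φ, by simp [B', hφ.2.1]⟩)) h
  have h1 := Nat.one_le_two_pow (n := Sp.f)
  omega

/-- The number of vectors whose block is not killed by a functional. -/
theorem card_cross {φ : W'} (hφ : φ ≠ 0) :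
    (Finset.univ.filter fun z : W => z ≠ 0 ∧ ∃ y ∈ Sp.B z, D.β y φ = 1).card =
      2 ^ finrank F2 W - 2 ^ (finrank F2 W - Sp.f) := by
  set Cr := Finset.univ.filter fun z : W => z ≠ 0 ∧ ∃ y ∈ Sp.B z, D.β y φ = 1 with hCr
  set Off := Finset.univ.filter fun y : W => D.β y φ = 1 with hOff
  have h := Finset.sum_card_bipartiteAbove_eq_sum_card_bipartiteBelow (s := Cr) (t := Off)
    (r := fun z y => y ∈ Sp.B z)
  have e1 : ∀ z ∈ Cr, 2 * (Off.bipartiteAbove (fun z y => y ∈ Sp.B z) z).card = 2 ^ Sp.f := by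
    intro z hz
    obtain ⟨hz0, y₀, hy₀, hy₀1⟩ := (Finset.mem_filter.1 hz).2
    set S := Finset.univ.filter fun y : W => y ∈ Sp.B z
    have hadd := Finset.card_filter_add_card_filter_not (s := S) (fun y : W => D.β y φ = 1)
    have heq : (S.filter fun y => D.β y φ = 1).card = (S.filter fun y => ¬ D.β y φ = 1).card := by
      refine Finset.card_bij' (fun y _ => y + y₀) (fun y _ => y + y₀) ?_ ?_ ?_ ?_
      · intro y hy
        obtain ⟨hy', hy1⟩ := Finset.mem_filter.1 hy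
        refine Finset.mem_filter.2 ⟨Finset.mem_filter.2 ⟨Finset.mem_univ _, add_mem (Finset.mem_filter.1 hy').2 hy₀⟩, ?_⟩
        rw [map_add, LinearMap.add_apply, hy1, hy₀1]; decide
      · intro y hy
        obtain ⟨hy', hy1⟩ := Finset.mem_filter.1 hy
        refine Finset.mem_filter.2 ⟨Finset.mem_filter.2 ⟨Finset.mem_univ _, add_mem (Finset.mem_filter.1 hy').2 hy₀⟩, ?_⟩
        rw [map_add, LinearMap.add_apply, (f2_cases _).resolve_right hy1, hy₀1, zero_add]
      · intro y _; simp [add_assoc, add_self']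
      · intro y _; simp [add_assoc, add_self']
    have hab : Off.bipartiteAbove (fun z y => y ∈ Sp.B z) z = S.filter fun y => D.β y φ = 1 := by
      ext y; simp [Finset.bipartiteAbove, Off, S, and_comm]
    have hSc : S.card = 2 ^ Sp.f := (card_submodule (Sp.B z)).trans (by rw [Sp.dim z hz0])
    rw [hab]
    omega
  have e2 : ∀ y ∈ Off, (Cr.bipartiteBelow (fun z y => y ∈ Sp.B z) y).card = 2 ^ Sp.f - 1 := by
    intro y hy
    have hy1 : D.β y φ = 1 := (Finset.mem_filter.1 hy).2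
    have hy0 : y ≠ 0 := (D.ne_zero_of_β hy1).1
    have e : Cr.bipartiteBelow (fun z y => y ∈ Sp.B z) y = (Finset.univ.filter fun z : W => z ∈ Sp.B y).erase 0 := by
      ext z
      simp only [Finset.bipartiteBelow, Cr, Finset.mem_filter, Finset.mem_univ, true_and, Finset.mem_erase]
      refine ⟨fun ⟨⟨hz, _⟩, hyz⟩ => ⟨hz, by rw [Sp.eq_of_mem z y hz hy0 hyz]; exact Sp.mem z⟩, fun ⟨hz, hzy⟩ => ?_⟩
      have e := Sp.eq_of_mem y z hy0 hz hzy
      exact ⟨⟨hz, y, e ▸ Sp.mem y, hy1⟩, e ▸ Sp.mem y⟩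
    rw [e, Finset.card_erase_of_mem (by simp), card_submodule, Sp.dim y hy0]
  rw [Finset.sum_const_nat e2] at h
  have hoffc : Off.card = 2 ^ (finrank F2 W - 1) := by
    rw [← D.card_β_one hφ, Nat.card_eq_fintype_card, Fintype.card_subtype]
  obtain ⟨y, hy⟩ := D.swap.exists_one hφ
  have hfp := Sp.f_pos (D.ne_zero_of_β (show D.β y φ = 1 from hy)).1
  have hpr := Sp.proper
  have e3 : ∀ z ∈ Cr, (Off.bipartiteAbove (fun z y => y ∈ Sp.B z) z).card = 2 ^ (Sp.f - 1) := fun z hz => by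
    have := e1 z hz
    rw [show 2 ^ Sp.f = 2 * 2 ^ (Sp.f - 1) by rw [← pow_succ']; congr 1; omega] at this
    omega
  rw [Finset.sum_const_nat e3, hoffc] at h
  refine Nat.eq_of_mul_eq_mul_right (Nat.two_pow_pos (Sp.f - 1)) (h.trans ?_)
  rw [Nat.mul_sub_one, Nat.sub_mul, ← pow_add, ← pow_add, ← pow_add,
    show finrank F2 W - 1 + Sp.f = finrank F2 W + (Sp.f - 1) by omega,
    show finrank F2 W - Sp.f + (Sp.f - 1) = finrank F2 W - 1 by omega]

/-- The functionals of one block all vanish on a given block or none does. -/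
theorem dichotomy {a x : W} {φ ψ : W'} (ha : a ≠ 0) (hφ : Sp.Bl x φ) (hψ : Sp.Bl x ψ)
    (h : ∀ z ∈ Sp.B a, D.β z φ = 0) : ∀ z ∈ Sp.B a, D.β z ψ = 0 := by
  by_contra hc
  push Not at hc
  obtain ⟨z₁, hz₁, hz₁'⟩ := hc
  have hz₁' := f2_eq_one hz₁'
  set m := finrank F2 W
  set O : Finset W' := Finset.univ.filter fun χ => ∃ z ∈ Sp.B a, D.β z χ = 1 with hO
  have hOc : O.card = 2 ^ m - 2 ^ (m - Sp.f) := by
    have hnot : (Finset.univ.filter fun χ : W' => ¬ ∃ z ∈ Sp.B a, D.β z χ = 1) =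
        Finset.univ.filter fun χ => χ ∈ D.swap.ann (Sp.B a) := by
      refine Finset.filter_congr fun χ _ => ?_
      rw [D.swap.mem_ann]
      push Not
      exact forall₂_congr fun z _ => ⟨fun h => (f2_cases _).resolve_right h,
        fun h h1 => zero_ne_one (h.symm.trans h1)⟩
    have hadd := Finset.card_filter_add_card_filter_not (s := (Finset.univ : Finset W'))
      (fun χ : W' => ∃ z ∈ Sp.B a, D.β z χ = 1)
    rw [hnot, card_submodule, Finset.card_univ, card_univ_pow] at hadd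
    have := D.swap.finrank_ann (Sp.B a)
    rw [Sp.dim a ha] at this
    have e := D.finrank_eq
    show (Finset.univ.filter _).card = _
    rw [show finrank F2 W' = m from e.symm, show finrank F2 (D.swap.ann (Sp.B a)) = m - Sp.f by omega] at hadd
    omega
  set A : Finset W := Finset.univ.filter fun y => y ∉ Sp.B a
  set n : W → ℕ := fun y => (O.bipartiteAbove Sp.Bl y).card with hn
  have hcnt := Finset.sum_card_bipartiteAbove_eq_sum_card_bipartiteBelow (s := A) (t := O) (r := Sp.Bl)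
  -- the occurring values are equal
  have hconst : ∀ y χ, χ ∈ O → Sp.Bl y χ → n y = n x := by
    intro y χ hχ hy
    obtain ⟨z₂, hz₂, hz₂'⟩ := (Finset.mem_filter.1 hχ).2
    obtain ⟨η, hη1, hη2⟩ := D.exists_one_one (D.ne_zero_of_β hz₁').1 (D.ne_zero_of_β hz₂').1
    obtain ⟨g, hg, hg'⟩ := hA.antiflag z₁ ψ z₁ η hz₁' hη1
    obtain ⟨k, hk, hk'⟩ := hA.antiflag z₂ η z₂ χ hη2 hz₂'
    have fixB : ∀ (g : G) (z : W), z ∈ Sp.B a → z ≠ 0 → D.r g z = z → Sp.B (D.r g a) = Sp.B a := by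
      intro g z hz hz0 hgz
      have e := Sp.eq_of_mem a z ha hz0 hz
      rw [← e, ← Sp.B_map_congr g e, hgz]
    set t := k * g
    have htB : Sp.B (D.r t a) = Sp.B a := by
      rw [D.r_mul, Sp.B_map_congr k (fixB g z₁ hz₁ (D.ne_zero_of_β hz₁').1 hg),
        fixB k z₂ hz₂ (D.ne_zero_of_β hz₂').1 hk]
    have htψ : D.r' t ψ = χ := by rw [← D.swap_r, D.swap.r_mul, D.swap_r, hg', hk']
    have hty : Sp.B (D.r t x) = Sp.B y :=
      Sp.Bl_unique (φ := χ) (by rw [← htψ]; exact (Sp.Bl_map t).2 hψ) hy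
    have hOt : ∀ χ', χ' ∈ O → D.r' t χ' ∈ O := by
      intro χ' h'
      obtain ⟨z, hz, hz1⟩ := (Finset.mem_filter.1 h').2
      refine Finset.mem_filter.2 ⟨Finset.mem_univ _, D.r t z, ?_, by rw [D.inv, hz1]⟩
      rw [← htB]; exact (Sp.mem_map_iff t).2 hz
    have hOt' : ∀ χ', D.r' t χ' ∈ O → χ' ∈ O := by
      intro χ' h'
      obtain ⟨z, hz, hz1⟩ := (Finset.mem_filter.1 h').2
      refine Finset.mem_filter.2 ⟨Finset.mem_univ _, D.r t⁻¹ z, (Sp.mem_map_iff t).1 ?_, ?_⟩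
      · rw [D.r_apply_inv, htB]; exact hz
      · rw [D.β_inv_left, hz1]
    refine (Finset.card_bij' (fun χ' _ => D.r' t χ') (fun χ' _ => D.r' t⁻¹ χ') (fun χ' h' => ?_) (fun χ' h' => ?_)
      (fun χ' _ => D.swap.r_inv_apply t χ') fun χ' _ => D.r'_apply_inv t χ').symm
    · obtain ⟨h1, h2⟩ := Finset.mem_filter.1 h'
      exact Finset.mem_filter.2 ⟨hOt χ' h1, Sp.Bl_congr ((Sp.Bl_map t).2 h2) hty⟩
    · obtain ⟨h1, h2⟩ := Finset.mem_filter.1 h'
      refine Finset.mem_filter.2 ⟨hOt' _ (by rw [D.r'_apply_inv]; exact h1), (Sp.Bl_map t).1 ?_⟩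
      rw [D.r'_apply_inv]; exact Sp.Bl_congr h2 hty.symm
  have e2 : ∀ χ ∈ O, (A.bipartiteBelow Sp.Bl χ).card = 2 ^ Sp.f - 1 := by
    intro χ hχ
    obtain ⟨z, hz, hz1⟩ := (Finset.mem_filter.1 hχ).2
    obtain ⟨b, hb⟩ := exists_Bl hA (D.ne_zero_of_β hz1).2
    have hb0 : Sp.B b ≠ Sp.B a := fun e => zero_ne_one ((Sp.vanish hA ⟨b, hb, e⟩ z hz).symm.trans hz1)
    have e : A.bipartiteBelow Sp.Bl χ = (Finset.univ.filter fun y : W => y ∈ Sp.B b).erase 0 := by
      ext y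
      simp only [Finset.bipartiteBelow, A, Finset.mem_filter, Finset.mem_univ, true_and, Finset.mem_erase]
      refine ⟨fun ⟨hy, h⟩ => ⟨fun e => hy (e ▸ zero_mem _), ?_⟩,
        fun ⟨hy0, hy⟩ => ⟨fun hya => hb0 ?_, b, hb, (Sp.eq_of_mem b y hb.1 hy0 hy).symm⟩⟩
      · rw [← Sp.Bl_unique h ⟨b, hb, rfl⟩]; exact Sp.mem y
      · rw [← Sp.eq_of_mem b y hb.1 hy0 hy, Sp.eq_of_mem a y ha hy0 hya]
    rw [e, Finset.card_erase_of_mem (by simp), card_submodule, Sp.dim b hb.1]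
  rw [Finset.sum_const_nat e2, hOc] at hcnt
  have hle : ∑ y ∈ A, (O.bipartiteAbove Sp.Bl y).card ≤ A.card * n x := by
    refine (Finset.sum_le_card_nsmul A _ (n x) fun y hy => ?_).trans (le_of_eq (smul_eq_mul _ _))
    rcases (O.bipartiteAbove Sp.Bl y).eq_empty_or_nonempty with h | ⟨χ, hχ⟩
    · rw [h, Finset.card_empty]; exact Nat.zero_le _
    · exact (hconst y χ (Finset.mem_filter.1 hχ).1 (Finset.mem_filter.1 hχ).2).le
  have hp := Sp.proper
  have hfp := Sp.f_pos ha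
  have hnx : n x = 2 ^ Sp.f - 1 := by
    obtain ⟨b, hb, e⟩ := hφ
    have hcard := Sp.card_Bl hA hb.1
    have hsub : n x ≤ (Finset.univ.filter fun χ => Sp.Bl b χ).card := Finset.card_le_card fun χ hχ =>
      Finset.mem_filter.2 ⟨Finset.mem_univ _, Sp.Bl_congr (Finset.mem_filter.1 hχ).2 e.symm⟩
    by_contra hne
    have hAc : A.card = 2 ^ m - 2 ^ Sp.f := by
      have hadd := Finset.card_filter_add_card_filter_not (s := (Finset.univ : Finset W)) (fun y : W => y ∈ Sp.B a)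
      rw [card_submodule, Sp.dim a ha, Finset.card_univ, card_univ_pow] at hadd
      have hm' : finrank F2 W = m := rfl
      rw [hm'] at hadd
      show (Finset.univ.filter _).card = _
      omega
    have hle' := hle
    rw [hcnt, hAc] at hle'
    -- compare the two bounds
    have hF : 2 ≤ 2 ^ Sp.f := Nat.le_self_pow (by omega) 2
    have hn2 : n x + 2 ≤ 2 ^ Sp.f := by omega
    have hM : (2 : ℤ) ^ m = 2 ^ Sp.f * 2 ^ (m - Sp.f) := by rw [← pow_add]; congr 1; omega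
    have h1 : 2 ^ (m - Sp.f) ≤ 2 ^ m := Nat.pow_le_pow_right two_pos (by omega)
    have h2 : 2 ^ Sp.f ≤ 2 ^ m := Nat.pow_le_pow_right two_pos hp.le
    have hcast : ((2 : ℤ) ^ m - 2 ^ (m - Sp.f)) * (2 ^ Sp.f - 1) ≤ (2 ^ m - 2 ^ Sp.f) * (n x : ℤ) := by
      have h' : ((((2 ^ m - 2 ^ (m - Sp.f)) * (2 ^ Sp.f - 1)) : ℕ) : ℤ) ≤ (((2 ^ m - 2 ^ Sp.f) * n x : ℕ) : ℤ) := by
        exact_mod_cast hle'
      push_cast [h1, h2, Nat.one_le_two_pow] at h'
      exact h'
    have hn2' : (n x : ℤ) ≤ 2 ^ Sp.f - 2 := by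
      have : ((n x + 2 : ℕ) : ℤ) ≤ ((2 ^ Sp.f : ℕ) : ℤ) := by exact_mod_cast hn2
      push_cast at this
      linarith
    have hmono : ((2 : ℤ) ^ m - 2 ^ Sp.f) * (n x : ℤ) ≤ (2 ^ m - 2 ^ Sp.f) * (2 ^ Sp.f - 2) :=
      mul_le_mul_of_nonneg_left hn2' (by
        have : ((2 ^ Sp.f : ℕ) : ℤ) ≤ ((2 ^ m : ℕ) : ℤ) := by exact_mod_cast h2
        push_cast at this
        linarith)
    have hpos : (0 : ℤ) < 2 ^ (m - Sp.f) := by positivity
    have hF' : (2 : ℤ) ≤ 2 ^ Sp.f := by exact_mod_cast hF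
    rw [hM] at hcast hmono
    nlinarith
  -- so every functional of the block is nonzero somewhere on the block of `a`
  obtain ⟨b, hb, e⟩ := id hφ
  have hall : O.bipartiteAbove Sp.Bl x = Finset.univ.filter fun χ => Sp.Bl x χ := by
    refine Finset.eq_of_subset_of_card_le (fun χ hχ =>
      Finset.mem_filter.2 ⟨Finset.mem_univ _, (Finset.mem_filter.1 hχ).2⟩) ?_
    have hcard := Sp.card_Bl hA hb.1
    have hcongr : (Finset.univ.filter fun χ => Sp.Bl x χ) = Finset.univ.filter fun χ => Sp.Bl b χ :=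
      Finset.filter_congr fun χ _ => ⟨fun h' => Sp.Bl_congr h' e.symm, fun h' => Sp.Bl_congr h' e⟩
    rw [hcongr]
    show _ ≤ n x
    omega
  have hφO : φ ∈ O.bipartiteAbove Sp.Bl x := by rw [hall]; exact Finset.mem_filter.2 ⟨Finset.mem_univ _, hφ⟩
  obtain ⟨z, hz, hz1⟩ := (Finset.mem_filter.1 (Finset.mem_filter.1 hφO).1).2
  exact zero_ne_one ((h z hz).symm.trans hz1)

/-- The common zero space of a block is complementary and a union of blocks. -/
theorem Dm_spec {a : W} (ha : a ≠ 0) :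
    finrank F2 (Sp.Dm a) + Sp.f = finrank F2 W ∧
      (∀ z ∈ Sp.Dm a, z ≠ 0 → Sp.B z ≤ Sp.Dm a) ∧ ∀ φ ∈ Sp.sigma a, φ ≠ 0 → Sp.Bl a φ := by
  obtain ⟨φ₀, hφ₀⟩ := hA.exists_R ha
  have hBl : Sp.Bl a φ₀ := ⟨a, hφ₀, rfl⟩
  set m := finrank F2 W
  set Cr := Finset.univ.filter fun z : W => z ≠ 0 ∧ ∃ y ∈ Sp.B z, D.β y φ₀ = 1
  have hcr : Cr.card = 2 ^ m - 2 ^ (m - Sp.f) := Sp.card_cross hA hφ₀.2.1
  set U0 := Finset.univ.filter fun z : W => ¬ (z ≠ 0 ∧ ∃ y ∈ Sp.B z, D.β y φ₀ = 1)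
  have hU0 : U0.card = 2 ^ (m - Sp.f) := by
    have hadd := Finset.card_filter_add_card_filter_not (s := (Finset.univ : Finset W))
      (fun z : W => z ≠ 0 ∧ ∃ y ∈ Sp.B z, D.β y φ₀ = 1)
    have hle : 2 ^ (m - Sp.f) ≤ 2 ^ m := Nat.pow_le_pow_right two_pos (by omega)
    rw [Finset.card_univ, card_univ_pow] at hadd
    change Cr.card + U0.card = _ at hadd
    rw [show finrank F2 W = m from rfl] at hadd
    omega
  have hblock : ∀ z, z ≠ 0 → (∀ y ∈ Sp.B z, D.β y φ₀ = 0) → ∀ χ, Sp.Bl a χ → ∀ y ∈ Sp.B z, D.β y χ = 0 :=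
    fun z hz h χ hχ => Sp.dichotomy hA hz hBl hχ h
  have hsub : U0 ⊆ Finset.univ.filter fun z : W => z ∈ Sp.Dm a := by
    intro z hz
    refine Finset.mem_filter.2 ⟨Finset.mem_univ _, ?_⟩
    by_cases hz0 : z = 0
    · rw [hz0]; exact zero_mem _
    refine D.mem_ann.2 fun χ hχ => ?_
    induction hχ using Submodule.span_induction with
    | mem χ hχ =>
      refine hblock z hz0 (fun y hy => (f2_cases _).resolve_right fun h1 => ?_) χ hχ z (Sp.mem z)
      exact (Finset.mem_filter.1 hz).2 ⟨hz0, y, hy, h1⟩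
    | zero => exact map_zero _
    | add _ _ _ _ h1 h2 => rw [map_add, h1, h2, add_zero]
    | smul c _ _ h1 => rw [map_smul, h1, smul_zero]
  have hS : insert (0 : W') (Finset.univ.filter fun χ => Sp.Bl a χ) ⊆
      Finset.univ.filter fun χ => χ ∈ Sp.sigma a := by
    refine Finset.insert_subset (by simp) fun χ hχ => Finset.mem_filter.2 ⟨Finset.mem_univ _, ?_⟩
    exact Submodule.subset_span (Finset.mem_filter.1 hχ).2
  have hS0 : (0 : W') ∉ Finset.univ.filter fun χ => Sp.Bl a χ := fun h =>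
    Sp.Bl_ne (Finset.mem_filter.1 h).2 rfl
  have hSc : (insert (0 : W') (Finset.univ.filter fun χ => Sp.Bl a χ)).card = 2 ^ Sp.f := by
    rw [Finset.card_insert_of_notMem hS0, Sp.card_Bl hA ha]
  have h1 := Finset.card_le_card hsub
  rw [hU0, card_submodule] at h1
  have h2 := Finset.card_le_card hS
  rw [hSc, card_submodule] at h2
  have h1' := (Nat.pow_le_pow_iff_right one_lt_two).1 h1
  have h2' := (Nat.pow_le_pow_iff_right one_lt_two).1 h2
  have h3 : finrank F2 (Sp.sigma a) + finrank F2 (Sp.Dm a) = m := D.finrank_ann _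
  have hp := Sp.proper
  refine ⟨by omega, fun z hz hz0 y hy => ?_, fun χ hχ hχ0 => ?_⟩
  · have heq : U0 = Finset.univ.filter fun z : W => z ∈ Sp.Dm a := by
      refine Finset.eq_of_subset_of_card_le hsub ?_
      rw [card_submodule, hU0]
      exact Nat.pow_le_pow_right two_pos (by omega)
    have hzU : z ∈ U0 := by rw [heq]; exact Finset.mem_filter.2 ⟨Finset.mem_univ _, hz⟩
    by_cases hy0 : y = 0
    · rw [hy0]; exact zero_mem _
    have hyU : y ∈ U0 := Finset.mem_filter.2 ⟨Finset.mem_univ _, fun ⟨_, w, hw, hw1⟩ =>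
      (Finset.mem_filter.1 hzU).2 ⟨hz0, w, by rwa [← Sp.eq_of_mem z y hz0 hy0 hy], hw1⟩⟩
    rw [heq] at hyU
    exact (Finset.mem_filter.1 hyU).2
  · have heq := Finset.eq_of_subset_of_card_le hS (by
      rw [card_submodule, hSc]
      exact Nat.pow_le_pow_right two_pos (by omega))
    have : χ ∈ insert (0 : W') (Finset.univ.filter fun χ => Sp.Bl a χ) := by
      rw [heq]; exact Finset.mem_filter.2 ⟨Finset.mem_univ _, hχ⟩
    exact (Finset.mem_filter.1 ((Finset.mem_insert.1 this).resolve_left hχ0)).2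

theorem B_le_Dm {a : W} : Sp.B a ≤ Sp.Dm a := fun z hz => D.mem_ann.2 fun χ hχ => by
  induction hχ using Submodule.span_induction with
  | mem χ hχ => exact Sp.vanish hA hχ z hz
  | zero => exact map_zero _
  | add _ _ _ _ h1 h2 => rw [map_add, h1, h2, add_zero]
  | smul c _ _ h1 => rw [map_smul, h1, smul_zero]

/-- The sum of two blocks is a union of blocks. -/
theorem B_le_sup {a b z : W} (ha : a ≠ 0) (hb : b ≠ 0) (hz0 : z ≠ 0) (hz : z ∈ Sp.B a ⊔ Sp.B b) :
    Sp.B z ≤ Sp.B a ⊔ Sp.B b := by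
  rw [← D.swap.ann_ann (Sp.B a ⊔ Sp.B b)]
  intro y hy
  refine D.mem_ann.2 fun φ hφ => ?_
  by_cases hφ0 : φ = 0
  · rw [hφ0, map_zero]
  rw [D.swap.mem_ann] at hφ
  obtain ⟨c, hc⟩ := exists_Bl hA hφ0
  have hBl : Sp.Bl c φ := ⟨c, hc, rfl⟩
  have hle : Sp.B a ⊔ Sp.B b ≤ Sp.Dm c := by
    refine sup_le ?_ ?_ <;> intro w hw <;> refine D.mem_ann.2 fun χ hχ => ?_ <;>
      (induction hχ using Submodule.span_induction with
      | mem χ hχ => ?_
      | zero => exact map_zero _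
      | add _ _ _ _ h1 h2 => rw [map_add, h1, h2, add_zero]
      | smul k _ _ h1 => rw [map_smul, h1, smul_zero])
    · exact Sp.dichotomy hA ha hBl hχ (fun w hw => hφ w (le_sup_left (b := Sp.B b) hw)) w hw
    · exact Sp.dichotomy hA hb hBl hχ (fun w hw => hφ w (le_sup_right (a := Sp.B a) hw)) w hw
  have hyD : y ∈ Sp.Dm c := (Sp.Dm_spec hA hc.1).2.1 z (hle hz) hz0 hy
  exact D.mem_ann.1 hyD φ (Submodule.subset_span hBl)

end Spread

end CfsgLib.MersenneLin
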